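import Cfsg.Agent.Lib.AutPSL.Main
import Cfsg.Agent.Lib.Classical.Linear

/-!
The automorphism group of `PGL₃(4)` is that of `PSL₃(4)`, of order at most 241920.
-/

set_option autoImplicit false
set_option linter.unusedSectionVars false
set_option linter.style.haveILetI false

namespace Cfsg.Agent.AutL34Type

open Matrix Cfsg.Agent.AutPSL.Basic Cfsg.Agent.AutPSL.Main

universe u

variable {F : Type u} [Field F] [Fintype F]

local notation "SL3" => Matrix.SpecialLinearGroup (Fin 3) F
local notation "PSL3" => Matrix.ProjectiveSpecialLinearGroup (Fin 3) F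
local notation "GL3" => GL (Fin 3) F
local notation "M3" => Matrix (Fin 3) (Fin 3) F
local notation "Q3" => GL (Fin 3) F ⧸ Subgroup.center (GL (Fin 3) F)

/-- `SL₃` mapped into `PGL₃`. -/
noncomputable def slQ : SL3 →* Q3 :=
  (QuotientGroup.mk' _).comp Matrix.SpecialLinearGroup.toGL

theorem slQ_eq_one_iff (s : SL3) : slQ s = 1 ↔ s ∈ Subgroup.center SL3 := by
  rw [← Matrix.SpecialLinearGroup.toGL_mem_center_iff]
  exact QuotientGroup.eq_one_iff _

/-- `PSL₃` embedded in `PGL₃`. -/
noncomputable def pslQ : PSL3 →* Q3 :=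
  QuotientGroup.lift (Subgroup.center SL3) slQ fun s hs => (slQ_eq_one_iff s).2 hs

theorem pslQ_mk (s : SL3) : pslQ (QuotientGroup.mk s : PSL3) = slQ s := rfl

theorem pslQ_injective : Function.Injective (pslQ (F := F)) := by
  rw [← MonoidHom.ker_eq_bot_iff, eq_bot_iff]
  intro x hx
  induction x using QuotientGroup.induction_on with
  | H s => exact Subgroup.mem_bot.2 ((QuotientGroup.eq_one_iff s).2 ((slQ_eq_one_iff s).1 hx))

theorem pslQ_range : (pslQ (F := F)).range = commutator Q3 := by
  have h1 : (pslQ (F := F)).range = (slQ (F := F)).range := by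
    ext x
    constructor
    · rintro ⟨y, rfl⟩
      induction y using QuotientGroup.induction_on with
      | H s => exact ⟨s, rfl⟩
    · rintro ⟨s, rfl⟩
      exact ⟨QuotientGroup.mk s, rfl⟩
  rw [h1, slQ, MonoidHom.range_comp, Classical.Linear.range_toGL_eq_ker_det,
    ← Classical.Linear.commutator_GL_eq_ker (by simp), commutator_def, commutator_def, Subgroup.map_commutator,
    ← MonoidHom.range_eq_map, MonoidHom.range_eq_top.2 (QuotientGroup.mk'_surjective _)]

theorem map_range_eq (β : MulAut Q3) : (pslQ (F := F)).range.map β.toMonoidHom = pslQ.range := by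
  rw [pslQ_range, commutator_def, Subgroup.map_commutator, ← MonoidHom.range_eq_map,
    MonoidHom.range_eq_top.2 (show Function.Surjective β.toMonoidHom from β.surjective)]

/-- An automorphism of `PGL₃` restricted to `PSL₃`. -/
noncomputable def restrictFun (β : MulAut Q3) : MulAut PSL3 :=
  (MonoidHom.ofInjective pslQ_injective).trans (((β.subgroupMap (pslQ (F := F)).range).trans
    (MulEquiv.subgroupCongr (map_range_eq β))).trans (MonoidHom.ofInjective pslQ_injective).symm)

theorem restrictFun_spec (β : MulAut Q3) (p : PSL3) : pslQ (restrictFun β p) = β (pslQ p) :=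
  MonoidHom.apply_ofInjective_symm pslQ_injective _

/-- Restriction of automorphisms from `PGL₃` to `PSL₃`. -/
noncomputable def restrict : MulAut Q3 →* MulAut PSL3 where
  toFun := restrictFun
  map_one' := MulEquiv.ext fun p => pslQ_injective (restrictFun_spec 1 p)
  map_mul' β γ := MulEquiv.ext fun p => pslQ_injective (by
    rw [restrictFun_spec, MulAut.mul_apply, MulAut.mul_apply, restrictFun_spec, restrictFun_spec])

theorem restrict_spec (β : MulAut Q3) (p : PSL3) : pslQ (restrict β p) = β (pslQ p) :=
  restrictFun_spec β p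

theorem three_ne_zero_of_four (hF : Fintype.card F = 4) : (3 : F) ≠ 0 := by
  intro h
  have h4 : (4 : F) = 0 := by exact_mod_cast hF ▸ Nat.cast_card_eq_zero F
  exact one_ne_zero (show (1 : F) = 0 by linear_combination h4 - h)

theorem centralizer_trivial (hF : Fintype.card F = 4) (q : Q3)
    (h : ∀ p : PSL3, q * pslQ p = pslQ p * q) : q = 1 := by
  obtain ⟨g, rfl⟩ := QuotientGroup.mk_surjective q
  rw [QuotientGroup.eq_one_iff, GeneralLinearGroup.mem_center_iff_val_mem_range_scalar]
  refine Matrix.mem_range_scalar_of_commute_transvectionStruct fun t => ?_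
  obtain ⟨i, j, hij, c⟩ := t
  set s : SL3 := Matrix.SpecialLinearGroup.transvection hij c
  set S : GL3 := Matrix.SpecialLinearGroup.toGL s
  have hw : g * S * g⁻¹ * S⁻¹ ∈ Subgroup.center GL3 := by
    rw [← QuotientGroup.eq_one_iff]
    simp only [QuotientGroup.mk_mul, QuotientGroup.mk_inv]
    rw [show (QuotientGroup.mk g : Q3) * QuotientGroup.mk S = QuotientGroup.mk S * QuotientGroup.mk g from
      h (QuotientGroup.mk s), mul_inv_cancel_right, mul_inv_cancel]
  obtain ⟨r, hr⟩ := GeneralLinearGroup.mem_center_iff_val_mem_range_scalar.1 hw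
  have hgs : (g : M3) * (S : M3) * ((g⁻¹ : GL3) : M3) = r • (S : M3) := by
    have e := congrArg (fun w : GL3 => (w : M3)) (show g * S * g⁻¹ = (g * S * g⁻¹ * S⁻¹) * S by group)
    simp only [Units.val_mul] at e hr
    rw [← hr] at e
    rw [e, Matrix.scalar_apply, ← Matrix.smul_one_eq_diagonal, Matrix.smul_mul, one_mul]
  have hS : (S : M3) = Matrix.transvection i j c := Matrix.SpecialLinearGroup.transvection_coe hij c
  have hr1 : r = 1 := by
    have e := congrArg Matrix.trace hgs
    rw [Matrix.trace_units_conj, Matrix.trace_smul, hS, Matrix.transvection, Matrix.trace_add, Matrix.trace_one,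
      Matrix.trace_single_eq_of_ne i j c hij, add_zero, Fintype.card_fin, smul_eq_mul] at e
    exact (mul_eq_right₀ (by exact_mod_cast three_ne_zero_of_four hF)).1 e.symm
  rw [hr1, one_smul] at hgs
  show (Matrix.transvection i j c) * (g : M3) = (g : M3) * Matrix.transvection i j c
  conv_lhs => rw [← hS, ← hgs, mul_assoc, Units.inv_mul, mul_one]
  rw [hS]

theorem restrict_injective (hF : Fintype.card F = 4) : Function.Injective (restrict (F := F)) := by
  rw [← MonoidHom.ker_eq_bot_iff, eq_bot_iff]
  intro β hβ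
  have hfix : ∀ p, β (pslQ p) = pslQ p := fun p => by
    rw [← restrict_spec, MonoidHom.mem_ker.1 hβ, MulAut.one_apply]
  refine Subgroup.mem_bot.2 (MulEquiv.ext fun x => ?_)
  rw [MulAut.one_apply]
  refine (inv_mul_eq_one.1 (centralizer_trivial hF (x⁻¹ * β x) fun p => ?_)).symm
  have hmem : x * pslQ p * x⁻¹ ∈ (pslQ (F := F)).range := by
    rw [pslQ_range]
    have hp : pslQ p ∈ commutator Q3 := pslQ_range (F := F) ▸ ⟨p, rfl⟩
    exact (inferInstance : (commutator Q3).Normal).conj_mem _ hp x
  obtain ⟨p', hp'⟩ := hmem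
  have e : β x * pslQ p * (β x)⁻¹ = x * pslQ p * x⁻¹ := by
    calc β x * pslQ p * (β x)⁻¹ = β (x * pslQ p * x⁻¹) := by rw [map_mul, map_mul, map_inv, hfix]
      _ = _ := by rw [← hp', hfix]
  calc x⁻¹ * β x * pslQ p = x⁻¹ * (β x * pslQ p * (β x)⁻¹) * β x := by group
    _ = x⁻¹ * (x * pslQ p * x⁻¹) * β x := by rw [e]
    _ = _ := by group

/-- An automorphism of `GL₃` on `PGL₃`. -/
noncomputable def descendQ (e : MulAut GL3) : MulAut Q3 :=
  QuotientGroup.congr _ _ e (Subgroup.characteristic_iff_map_eq.1 inferInstance e)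

theorem descendQ_mk (e : MulAut GL3) (g : GL3) : descendQ e (QuotientGroup.mk g) = QuotientGroup.mk (e g) := rfl

theorem restrict_surjective : Function.Surjective (restrict (F := F)) := by
  have hext : ∀ (β : MulAut Q3) (γ : MulAut PSL3), (∀ s : SL3, β (slQ s) = pslQ (γ (QuotientGroup.mk s))) →
      restrict β = γ := fun β γ hs => MulEquiv.ext fun p => pslQ_injective <| by
    induction p using QuotientGroup.induction_on with
    | H s => rw [restrict_spec, pslQ_mk, hs]
  have hg : ∀ g : GL3, gAut g ∈ (restrict (F := F)).range := fun g =>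
    ⟨MulAut.conj (QuotientGroup.mk g), hext _ _ fun s =>
      congrArg QuotientGroup.mk (Units.ext (conjSL_coe g s).symm :
        g * Matrix.SpecialLinearGroup.toGL s * g⁻¹ = Matrix.SpecialLinearGroup.toGL (conjSL g s))⟩
  have hf : ∀ σ : F ≃+* F, fAut σ ∈ (restrict (F := F)).range := fun σ =>
    ⟨descendQ (Units.mapEquiv σ.mapMatrix.toMulEquiv), hext _ _ fun s =>
      congrArg QuotientGroup.mk (Units.ext (fieldSL_coe σ s).symm :
        Units.mapEquiv σ.mapMatrix.toMulEquiv (Matrix.SpecialLinearGroup.toGL s) =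
          Matrix.SpecialLinearGroup.toGL (fieldSL σ s))⟩
  let dualEquiv : MulAut GL3 :=
    { toFun := dual
      invFun := dual
      left_inv := fun g => Units.ext (Matrix.transpose_transpose _)
      right_inv := fun g => Units.ext (Matrix.transpose_transpose _)
      map_mul' := fun g h => Units.ext (by
        show (((g * h)⁻¹ : GL3) : M3)ᵀ = ((g⁻¹ : GL3) : M3)ᵀ * ((h⁻¹ : GL3) : M3)ᵀ
        rw [_root_.mul_inv_rev, Units.val_mul, Matrix.transpose_mul]) }
  have hi : (iota : MulAut PSL3) ∈ (restrict (F := F)).range :=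
    ⟨descendQ dualEquiv, hext _ _ fun s => congrArg QuotientGroup.mk (Units.ext (by
      show (((Matrix.SpecialLinearGroup.toGL s)⁻¹ : GL3) : M3)ᵀ = ((iotaSL s : SL3) : M3)
      rw [iotaSL_coe, ← map_inv]; rfl) :
        dual (Matrix.SpecialLinearGroup.toGL s) = Matrix.SpecialLinearGroup.toGL (iotaSL s))⟩
  intro γ
  obtain ⟨g, σ, γ', hγ', rfl⟩ := exists_decomp (by norm_num) γ
  refine MonoidHom.mem_range.1 (mul_mem (mul_mem (hg g) (hf σ)) ?_)
  rcases hγ' with rfl | rfl
  · exact one_mem _
  · exact hi

theorem card_field_aut_le (hF : Fintype.card F = 4) : Nat.card (F ≃+* F) ≤ 2 := by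
  classical
  obtain ⟨w, hw⟩ := IsCyclic.exists_generator (α := Fˣ)
  have ho : orderOf w = 3 := by
    rw [orderOf_eq_card_of_forall_mem_zpowers hw, Nat.card_eq_fintype_card, Fintype.card_units, hF]
  have hw1 : (w : F) ≠ 1 := fun e => by
    rw [Units.val_eq_one.1 e, orderOf_one] at ho
    omega
  let f : (F ≃+* F) → ((Finset.univ.erase (0 : F)).erase 1 : Finset F) := fun σ =>
    ⟨σ w, Finset.mem_erase.2 ⟨fun e => hw1 (σ.injective (e.trans σ.map_one.symm)),
      Finset.mem_erase.2 ⟨fun e => w.ne_zero (σ.injective (e.trans σ.map_zero.symm)), Finset.mem_univ _⟩⟩⟩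
  have hf : Function.Injective f := by
    intro σ τ e
    have e' : σ w = τ w := congrArg Subtype.val e
    refine RingEquiv.ext fun x => ?_
    rcases eq_or_ne x 0 with rfl | hx
    · rw [map_zero, map_zero]
    · obtain ⟨n, hn⟩ := (hw (Units.mk0 x hx) : Units.mk0 x hx ∈ Subgroup.zpowers w)
      have hxw : x = (w : F) ^ n := by
        rw [← Units.val_mk0 hx, ← hn, Units.val_zpow_eq_zpow_val]
      rw [hxw, map_zpow₀, map_zpow₀, e']
  refine (Nat.card_le_card_of_injective f hf).trans ?_
  rw [Nat.card_eq_finsetCard, Finset.card_erase_of_mem (by simp), Finset.card_erase_of_mem (by simp),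
    Finset.card_univ, hF]

theorem card_pgl_le (hF : Fintype.card F = 4) : Nat.card Q3 ≤ 60480 := by
  classical
  have h := Matrix.card_GL_field (𝔽 := F) 3
  rw [hF, Fin.prod_univ_three] at h
  norm_num at h
  have hc : 3 ≤ Nat.card (Subgroup.center GL3) := by
    have := Nat.card_le_card_of_injective
      (fun a : Fˣ => (⟨GeneralLinearGroup.scalar (Fin 3) a, by
        rw [GeneralLinearGroup.center_eq_range_scalar]; exact ⟨a, rfl⟩⟩ : Subgroup.center GL3))
      (fun a b e => by
        have e' := congrArg (fun w : Subgroup.center GL3 => ((w : GL3) : M3) 0 0) e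
        exact Units.ext (by simpa using e'))
    rwa [Nat.card_eq_fintype_card, Fintype.card_units, hF] at this
  have h2 := Subgroup.card_eq_card_quotient_mul_card_subgroup (Subgroup.center GL3)
  rw [Nat.card_eq_fintype_card, h] at h2
  nlinarith [Nat.card_pos (α := Q3)]

theorem restrict_bijective (hF : Fintype.card F = 4) : Function.Bijective (restrict (F := F)) :=
  ⟨restrict_injective hF, restrict_surjective⟩

theorem card_aut_le (hF : Fintype.card F = 4) : Nat.card (MulAut PSL3) ≤ 241920 := by
  haveI : Finite (F ≃+* F) := Finite.of_injective (fun σ : F ≃+* F => (σ : F → F)) DFunLike.coe_injective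
  let f : Q3 × (F ≃+* F) × Bool → MulAut PSL3 := fun x =>
    restrict (MulAut.conj x.1) * fAut x.2.1 * if x.2.2 then iota else 1
  have hf : Function.Surjective f := by
    intro γ
    obtain ⟨g, σ, γ', hγ', rfl⟩ := exists_decomp (by norm_num) γ
    have hg : restrict (MulAut.conj (QuotientGroup.mk g : Q3)) = gAut g := by
      refine MulEquiv.ext fun p => pslQ_injective ?_
      induction p using QuotientGroup.induction_on with
      | H s =>
        rw [restrict_spec]
        exact congrArg QuotientGroup.mk (Units.ext (conjSL_coe g s).symm :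
          g * Matrix.SpecialLinearGroup.toGL s * g⁻¹ = Matrix.SpecialLinearGroup.toGL (conjSL g s))
    rcases hγ' with rfl | rfl
    · exact ⟨(QuotientGroup.mk g, σ, false), by simp [f, hg]⟩
    · exact ⟨(QuotientGroup.mk g, σ, true), by simp [f, hg]⟩
  refine (Nat.card_le_card_of_surjective f hf).trans ?_
  rw [Nat.card_prod, Nat.card_prod]
  have h1 := card_pgl_le hF
  have h2 := card_field_aut_le hF
  have h3 : Nat.card Bool = 2 := by simp
  rw [h3]
  calc Nat.card Q3 * (Nat.card (F ≃+* F) * 2) ≤ 60480 * (2 * 2) := by gcongr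
    _ = 241920 := by norm_num

end Cfsg.Agent.AutL34Type
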