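import Cfsg.Agent.Lib.AutL34Type.Transfer
import Cfsg.Agent.Lib.AutL34Type.AutPGL
import Cfsg.Agent.Lib.L34Type.Assembly
import Cfsg.Agent.Lib.L34Type.BothMain
import Cfsg.Agent.Lib.Perm.ThreeCycleFStar
import Cfsg.Agent.Lib.Cores.Basic
import Cfsg.Agent.S2140

/-!
A group with the first model, fusion, trivial core and no solvability is `Aut(PGL₃(4))`.
-/

set_option autoImplicit false
set_option maxRecDepth 100000
set_option linter.unusedSectionVars false
set_option linter.style.haveILetI false

namespace Cfsg.Agent.AutL34Type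

open Subgroup

universe u v

/-- In `PSL₃(4)` no normaliser of a side holds a group of order 192 centralising `z`. -/
theorem false_of_large {F : Type v} [Field F] [Fintype F] (hF : Fintype.card F = 4) {X : Type u} [Group X]
    [Finite X] [IsSimpleGroup X] {S : Sylow 2 X} {R A : Subgroup X}
    (h : L34Type.Shape (S : Subgroup X) R A) (e : X ≃* Matrix.ProjectiveSpecialLinearGroup (Fin 3) F) {z : X}
    (hz : z ∈ R ⊓ A) (hz1 : z ≠ 1) (V : Subgroup X) (hV : Nat.card V = 192)
    (hVR : V ≤ normalizer (R : Set X)) (hVA : V ≤ normalizer (A : Set X))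
    (hVz : V ≤ centralizer ({z} : Set X)) : False := by
  have key : ∀ R A : Subgroup X, L34Type.Shape (S : Subgroup X) R A → L34Type.Fused R → z ∈ R →
      V ≤ normalizer (R : Set X) → False := by
    intro R A h hf hzR hVR
    have h1 := L34Type.fused_orbit_card h hf hzR hz1
    have h2 : 192 ≤ Nat.card (normalizer (R : Set X) ⊓ centralizer ({z} : Set X) : Subgroup X) :=
      hV ▸ Nat.le_of_dvd Nat.card_pos (card_dvd_of_le (le_inf hVR hVz))
    have h3 := (normalizer (R : Set X)).card_mul_index
    rw [(Nat.card_congr e.toEquiv).trans (L34Mult.card_psl hF)] at h3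
    have hne : normalizer (R : Set X) ≠ ⊤ := by
      intro e'
      haveI : R.Normal := normalizer_eq_top_iff.1 e'
      rcases IsSimpleGroup.eq_bot_or_eq_top_of_normal R inferInstance with h0 | h0
      · have := h.R_card
        rw [h0, card_bot] at this
        omega
      · have := h.R_card
        rw [h0, card_top, (Nat.card_congr e.toEquiv).trans (L34Mult.card_psl hF)] at this
        omega
    have h4 := (S2140.result hF 3 le_rfl (by omega)).1 ((normalizer (R : Set X)).map e.toMonoidHom) fun e' => hne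
      (by rwa [← map_top_of_surjective e.toMonoidHom e.surjective, (map_injective e.injective).eq_iff] at e')
    rw [index_map_of_bijective (f := e.toMonoidHom) e.bijective] at h4
    norm_num at h4
    nlinarith
  rcases L34Type.fused_of_simple L34Type.kleinIneq h with hf | hf
  · exact key R A h hf hz.1 hVR
  · exact key A R h.symm hf hz.2 hVA

theorem m_closed : closedL 0 mList = true := by decide +kernel

theorem u_self_cent : (tList.all fun x => !((uList 0).all (cm 0 x)) || (uList 0).contains x) = true := by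
  decide +kernel

theorem conj_one : (aList.all fun y => rList.any fun x => Nat.beq (mul 0 1 x) (mul 0 y 1)) = true ∧
    isInv 0 1 = true := by decide +kernel

namespace Local

variable {G : Type u} [Group G] [Finite G] {z : G} (D : Local 0 z)

theorem swap_conj : (∀ r ∈ D.rSub, D.el 1 * r * D.el 1 ∈ D.aSub) ∧ ∀ a ∈ D.aSub, D.el 1 * a * D.el 1 ∈ D.rSub := by
  have h11 : D.el 1 * D.el 1 = 1 := by
    have h := conj_one.2
    simp only [isInv, Bool.and_eq_true, Nat.beq_eq] at h
    rw [← D.el_mul (by norm_num) (by norm_num), h.1, D.el_zero]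
  obtain ⟨-, -, -, hrn, hrc, hrl, han, hac, hal⟩ := u_facts
  have hR : ∀ r ∈ D.rSub, D.el 1 * r * D.el 1 ∈ D.aSub := by
    rintro _ ⟨x, hx, rfl⟩
    have h := List.all_eq_true.1 swap_fact x hx
    simp only [List.any_eq_true, Nat.beq_eq] at h
    obtain ⟨y, hy, e⟩ := h
    have hy' := (closedL_spec hac).1 y hy
    refine ⟨y, hy, ?_⟩
    rw [← D.el_mul (by norm_num) ((closedL_spec hrc).1 x hx), e, D.el_mul hy' (by norm_num), mul_assoc, h11, mul_one]
  refine ⟨hR, ?_⟩
  rintro _ ⟨y, hy, rfl⟩
  have h := List.all_eq_true.1 conj_one.1 y hy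
  simp only [List.any_eq_true, Nat.beq_eq] at h
  obtain ⟨x, hx, e⟩ := h
  refine ⟨x, hx, ?_⟩
  have hx' := (closedL_spec hrc).1 x hx
  rw [mul_assoc, ← D.el_mul ((closedL_spec hac).1 y hy) (by norm_num), ← e, D.el_mul (by norm_num) hx', ← mul_assoc,
    h11, one_mul]

/-- The automorphism group. -/
theorem iso_mulAut (hc : IsConj z (D.el 15)) (hO : Cfsg.oddCore G = ⊥)
    (hH : Group.IsSolvable (centralizer ({z} : Set G))) (hns : ¬ Group.IsSolvable G) {F : Type v} [Field F]
    [Fintype F] (hF : Fintype.card F = 4) :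
    Nonempty (G ≃* MulAut (GL (Fin 3) F ⧸ Subgroup.center (GL (Fin 3) F))) := by
  classical
  haveI : Fact (Nat.Prime 2) := ⟨Nat.prime_two⟩
  obtain ⟨M, hMn, hidx, hUM, hsqM, h1M, Q, hQ⟩ := D.exists_normal_four
  haveI := hMn
  have hQe : (Q : Subgroup M) = D.uSub.comap M.subtype := by
    rw [← hQ, comap_map_eq_self_of_injective M.subtype_injective]
  set RM := D.rSub.comap M.subtype with hRM
  set AM := D.aSub.comap M.subtype with hAM
  have hsh : L34Type.Shape (Q : Subgroup M) RM AM :=
    hQe ▸ D.shape.comap M.subtype M.subtype_injective (hUM.trans M.range_subtype.ge)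
  have hOM : Cfsg.oddCore M = ⊥ := by
    have h2 : (Cfsg.oddCore M).map M.subtype ≤ Cfsg.oddCore G := Cores.le_oddCore (by
      rw [card_map_of_injective M.subtype_injective]; exact Cores.oddCore_odd)
    rw [hO, le_bot_iff, map_eq_bot_iff_of_injective _ M.subtype_injective] at h2
    exact h2
  have hRU : D.rSub ≤ D.uSub := D.shape.R_le
  have hAU : D.aSub ≤ D.uSub := D.shape.A_le
  obtain ⟨-, -, -, -, -, -, -, -, hz16R, hz16A, h15R, h15A⟩ := shape_facts
  simp only [List.contains_iff_mem] at hz16R hz16A h15R h15A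
  have hzW : z ∈ D.rSub ⊓ D.aSub := mem_inf.2 ⟨⟨16, hz16R, D.z_eq⟩, ⟨16, hz16A, D.z_eq⟩⟩
  have hz1 : z ≠ 1 := fun e => absurd ((D.el_eq_one_iff (by norm_num)).1 (D.z_eq.trans e)) (by norm_num)
  -- no normal 2-subgroup
  have h2M : ∀ N : Subgroup M, N.Normal → IsPGroup 2 N → N = ⊥ := by
    intro N hN hp
    by_contra hne
    obtain ⟨hsR, hsA⟩ := D.swap_conj
    have h1i : ∀ m ∈ M, D.el 1 * m * D.el 1 ∈ M := fun m hm => by
      have h11 : (D.el 1)⁻¹ = D.el 1 := inv_eq_of_mul_eq_one_right (by
        have h := conj_one.2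
        simp only [isInv, Bool.and_eq_true, Nat.beq_eq] at h
        rw [← D.el_mul (by norm_num) (by norm_num), h.1, D.el_zero])
      have := hMn.conj_mem m hm (D.el 1)
      rwa [h11] at this
    have h11 : D.el 1 * D.el 1 = 1 := by
      have h := conj_one.2
      simp only [isInv, Bool.and_eq_true, Nat.beq_eq] at h
      rw [← D.el_mul (by norm_num) (by norm_num), h.1, D.el_zero]
    have hboth : ∀ m ∈ M, (∀ r ∈ D.rSub, m * r * m⁻¹ ∈ D.rSub) ∧ ∀ a ∈ D.aSub, m * a * m⁻¹ ∈ D.aSub := by
      have hsand : ∀ m x, D.el 1 * ((D.el 1 * m * D.el 1) * (D.el 1 * x * D.el 1) * (D.el 1 * m * D.el 1)⁻¹) *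
          D.el 1 = m * x * m⁻¹ := by
        intro m x
        have hi : (D.el 1)⁻¹ = D.el 1 := inv_eq_of_mul_eq_one_right h11
        rw [_root_.mul_inv_rev, _root_.mul_inv_rev, hi]
        simp only [← mul_assoc, h11, one_mul]
        simp only [mul_assoc, ← mul_assoc (D.el 1) (D.el 1), h11, one_mul, mul_one]
      rcases L34Type.exists_normal_side hsh hOM hN hp hne with ⟨hR, -⟩ | ⟨hA, -⟩
      · have hR' : ∀ m ∈ M, ∀ r ∈ D.rSub, m * r * m⁻¹ ∈ D.rSub := fun m hm r hr =>
          hR.conj_mem ⟨r, hUM (hRU hr)⟩ hr ⟨m, hm⟩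
        refine fun m hm => ⟨hR' m hm, fun a ha => ?_⟩
        rw [← hsand m a]
        exact hsR _ (hR' _ (h1i m hm) _ (hsA a ha))
      · have hA' : ∀ m ∈ M, ∀ a ∈ D.aSub, m * a * m⁻¹ ∈ D.aSub := fun m hm a ha =>
          hA.conj_mem ⟨a, hUM (hAU ha)⟩ ha ⟨m, hm⟩
        refine fun m hm => ⟨fun r hr => ?_, hA' m hm⟩
        rw [← hsand m r]
        exact hsA _ (hA' _ (h1i m hm) _ (hsR r hr))
    -- the four-group is normal
    set W := D.rSub ⊓ D.aSub with hW
    have he : D.el 15 ∈ W := mem_inf.2 ⟨⟨15, h15R, rfl⟩, ⟨15, h15A, rfl⟩⟩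
    obtain ⟨e31, -, -, -⟩ := D.ez_facts
    have hez : D.el 31 ∈ W := e31 ▸ mul_mem hzW he
    have hW4 : Nat.card W = 4 := D.shape.inf_card
    have h4 : ∀ w ∈ W, w = 1 ∨ w = z ∨ w = D.el 15 ∨ w = D.el 31 := by
      let f : Fin 4 → W := ![1, ⟨z, hzW⟩, ⟨_, he⟩, ⟨_, hez⟩]
      have hcode : ∀ i : Fin 4, (f i : G) = D.el (![0, 16, 15, 31] i) := fun i => by
        fin_cases i <;> simp [f, D.el_zero, D.z_eq]
      have hf : Function.Bijective f := (Nat.bijective_iff_injective_and_card f).2 ⟨fun i j e => by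
        have e' : D.el (![0, 16, 15, 31] i) = D.el (![0, 16, 15, 31] j) := by rw [← hcode, ← hcode, e]
        have hinj : ∀ i j : Fin 4, (![0, 16, 15, 31] i : ℕ) = ![0, 16, 15, 31] j → i = j := by decide
        exact hinj i j (D.el_inj (by fin_cases i <;> simp) (by fin_cases j <;> simp) e'),
        by rw [Nat.card_fin, hW4]⟩
      intro w hw
      obtain ⟨i, hi⟩ := hf.2 ⟨w, hw⟩
      have : w = (f i : G) := (congrArg Subtype.val hi).symm
      subst this
      fin_cases i <;> simp [f]
    have hMW : M ≤ normalizer (W : Set G) := fun m hm => by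
      refine CIT.mem_normalizer_of_forall fun w hw => ?_
      exact mem_inf.2 ⟨(hboth m hm).1 w (mem_inf.1 hw).1, (hboth m hm).2 w (mem_inf.1 hw).2⟩
    have hHW : centralizer ({z} : Set G) ≤ normalizer (W : Set G) := by
      intro g hg
      obtain ⟨h, hh, rfl⟩ := (D.mem' g).1 hg
      have h15 : D.el h * D.el 15 * (D.el h)⁻¹ ∈ W := by
        have hf := List.all_eq_true.1 (conj_fifteen 0 D.k_lt).1 h (List.mem_range.2 hh)
        simp only [Bool.and_eq_true, Bool.or_eq_true, Nat.beq_eq] at hf
        rcases hf.1 with e1 | e1 <;>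
          rw [← D.el_mul hh (by norm_num), e1, D.el_mul (by norm_num) hh, mul_inv_cancel_right] <;> assumption
      refine CIT.mem_normalizer_of_forall fun w hw => ?_
      rcases h4 w hw with rfl | rfl | rfl | rfl
      · simp
      · rw [D.h_fix hh]; exact hzW
      · exact h15
      · rw [e31, show D.el h * (z * D.el 15) * (D.el h)⁻¹ =
          (D.el h * z * (D.el h)⁻¹) * (D.el h * D.el 15 * (D.el h)⁻¹) by group, D.h_fix hh]
        exact mul_mem hzW h15
    have htop : normalizer (W : Set G) = ⊤ := by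
      rw [← index_eq_one]
      obtain ⟨S, hS⟩ := D.tSub_sylow
      have h1 : (normalizer (W : Set G)).index ∣ 4 := hidx ▸ index_dvd_of_le hMW
      have h2 : (normalizer (W : Set G)).index ∣ S.index :=
        index_dvd_of_le ((hS.le.trans (D.sub_le _)).trans hHW)
      have hco : Nat.Coprime 4 S.index :=
        Nat.Coprime.pow_left 2 (Nat.coprime_two_left.2 (Nat.odd_iff.2 (Nat.two_dvd_ne_zero.1 S.not_dvd_index)))
      exact Nat.eq_one_of_dvd_coprimes hco h1 h2
    have h3 : Nat.card (G ⧸ centralizer ({z} : Set G)) ≤ 3 := by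
      haveI := Fintype.ofFinite G
      let f : G ⧸ centralizer ({z} : Set G) → {w : W // w ≠ 1} := fun q =>
        ⟨⟨q.out * z * q.out⁻¹, (mem_normalizer_iff.1 (htop ▸ mem_top q.out) z).1 hzW⟩,
          fun e => hz1 (conj_eq_one_iff.1 (congrArg Subtype.val e))⟩
      have hf : Function.Injective f := by
        intro q q' e
        have e' : q.out * z * q.out⁻¹ = q'.out * z * q'.out⁻¹ :=
          congrArg (fun x : {w : W // w ≠ 1} => ((x : W) : G)) e
        rw [← q.out_eq, ← q'.out_eq]
        refine QuotientGroup.eq.2 (mem_centralizer_singleton_iff.2 ?_)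
        calc q.out⁻¹ * q'.out * z = q.out⁻¹ * (q'.out * z * q'.out⁻¹) * q'.out := by group
          _ = z * (q.out⁻¹ * q'.out) := by rw [← e']; group
      refine (Nat.card_le_card_of_injective f hf).trans ?_
      rw [Nat.card_eq_fintype_card, Fintype.card_subtype_compl, Fintype.card_subtype_eq, ← Nat.card_eq_fintype_card,
        hW4]
    refine hns ?_
    let φ := MulAction.toPermHom G (G ⧸ centralizer ({z} : Set G))
    haveI : Group.IsSolvable (Equiv.Perm (G ⧸ centralizer ({z} : Set G))) :=
      Perm.ThreeCycleFStar.isSolvable_perm_of_card_le_four (by omega)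
    haveI := hH
    have hker : φ.ker ≤ centralizer ({z} : Set G) := by
      intro g hg
      have e : φ g ((1 : G) : G ⧸ centralizer ({z} : Set G)) = ((1 : G) : G ⧸ centralizer ({z} : Set G)) := by
        rw [MonoidHom.mem_ker.1 hg]; rfl
      have e' : ((g * 1 : G) : G ⧸ centralizer ({z} : Set G)) = ((1 : G) : G ⧸ centralizer ({z} : Set G)) := e
      rw [mul_one, QuotientGroup.eq, mul_one] at e'
      exact inv_mem_iff.1 e'
    haveI : Group.IsSolvable φ.ker :=
      Group.isSolvable_of_isSolvable_injective (inclusion_injective hker)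
    exact Group.isSolvable_of_ker_le_range φ.ker.subtype φ (by rw [range_subtype])
  -- a minimal normal subgroup
  have hne : ({N : Subgroup M | N.Normal ∧ N ≠ ⊥}).Nonempty := by
    refine ⟨⊤, inferInstance, fun e => ?_⟩
    have h64 := Subgroup.card_le_card_group (Q : Subgroup M)
    rw [hsh.card_S, ← Subgroup.card_top (G := M), e, Subgroup.card_bot] at h64
    omega
  obtain ⟨N, ⟨hN, hN0⟩, hmin⟩ := Set.exists_min_image _ (fun N : Subgroup M => Nat.card N)
    (Set.toFinite _) hne
  have hmin' : ∀ K : Subgroup M, K.Normal → K ≤ N → K = ⊥ ∨ K = N := fun K hK hle => by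
    rcases eq_or_ne K ⊥ with e | e
    · exact Or.inl e
    · exact Or.inr (Subgroup.eq_of_le_of_card_ge hle (hmin K ⟨hK, e⟩))
  obtain ⟨hQN, hsimple⟩ := L34Type.normalInput M Q RM AM hsh hOM h2M N hN hN0 hmin'
  haveI := hsimple
  haveI := hN
  have hsN : L34Type.Shape ((Q.subtype hQN : Sylow 2 N) : Subgroup N) (RM.comap N.subtype) (AM.comap N.subtype) :=
    hsh.comap N.subtype N.subtype_injective (hQN.trans N.range_subtype.ge)
  obtain ⟨iso⟩ := L34Type.simple_iso F L34Type.bothFusedInput hF hsN
    (L34Type.below_all F L34Type.bothFusedInput hF (Nat.card N))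
  have hNc : Nat.card N = 20160 := (Nat.card_congr iso.toEquiv).trans (L34Mult.card_psl hF)
  set L := N.map M.subtype with hL
  have hUL : D.uSub ≤ L := fun u hu => ⟨⟨u, hUM hu⟩, hQN (hQe ▸ hu), rfl⟩
  have hLn : L.Normal := by
    refine ⟨?_⟩
    rintro _ ⟨n, hn, rfl⟩ g
    set N' := N.map (MulAut.conjNormal (H := M) g).toMonoidHom with hN'
    haveI hN'n : N'.Normal := hN.map _ (MulAut.conjNormal g).surjective
    have hc' : Nat.card N' = Nat.card N := card_map_of_injective (MulAut.conjNormal g).injective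
    have hN'0 : N' ≠ ⊥ := fun e => by rw [e, card_bot, hNc] at hc'; omega
    have hQN' : (Q : Subgroup M) ≤ N' := by
      refine (L34Type.normalInput M Q RM AM hsh hOM h2M N' hN'n hN'0 fun K hK hle => ?_).1
      rcases eq_or_ne K ⊥ with e | e
      · exact Or.inl e
      · exact Or.inr (Subgroup.eq_of_le_of_card_ge hle (hc'.le.trans (hmin K ⟨hK, e⟩)))
    have he : N ⊓ N' = N := by
      refine (hmin' _ inferInstance inf_le_left).resolve_left fun e => ?_
      have h1 := Subgroup.card_le_of_le (H := (Q : Subgroup M)) (K := N ⊓ N') (le_inf hQN hQN')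
      rw [hsh.card_S, e, card_bot] at h1
      omega
    have heq : N = N' := Subgroup.eq_of_le_of_card_ge (inf_eq_left.1 he) hc'.le
    refine ⟨MulAut.conjNormal g n, ?_, MulAut.conjNormal_apply g n⟩
    rw [heq]
    exact ⟨n, hn, rfl⟩
  haveI := hLn
  have hLc : Nat.card L = 20160 := (card_map_of_injective M.subtype_injective).trans hNc
  let eN : L ≃* Matrix.ProjectiveSpecialLinearGroup (Fin 3) F :=
    (N.equivMapOfInjective M.subtype M.subtype_injective).symm.trans iso
  -- trivial centraliser
  have hC : centralizer (L : Set G) = ⊥ := by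
    set C := centralizer (L : Set G) with hCdef
    haveI hCn : C.Normal := L34Type.centralizer_normal_of_normal hLn
    have hCL : ∀ x ∈ C, x ∈ L → x = 1 := by
      intro x hxC hxL
      haveI : IsSimpleGroup L := by
        haveI : Nontrivial L := Finite.one_lt_card_iff_nontrivial.1 (by omega)
        exact IsSimpleGroup.isSimpleGroup_of_surjective (N.equivMapOfInjective M.subtype M.subtype_injective).toMonoidHom
          (N.equivMapOfInjective M.subtype M.subtype_injective).surjective
      rcases IsSimpleGroup.eq_bot_or_eq_top_of_normal (Subgroup.center L) inferInstance with e | e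
      · have : (⟨x, hxL⟩ : L) ∈ Subgroup.center L :=
          mem_center_iff.2 fun l => Subtype.ext (mem_centralizer_iff.1 hxC l l.2)
        rw [e] at this
        exact congrArg Subtype.val (mem_bot.1 this)
      · letI : CommGroup L := { (inferInstance : Group L) with
          mul_comm := fun a b => (mem_center_iff.1 (e ▸ mem_top b : b ∈ Subgroup.center L) a) }
        have hp := IsSimpleGroup.prime_card (α := L)
        rw [hLc] at hp
        norm_num at hp
    refine le_bot_iff.1 (hO ▸ Cores.le_oddCore ?_)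
    by_contra hev
    rw [Nat.not_odd_iff_even, even_iff_two_dvd] at hev
    obtain ⟨⟨x, hx⟩, hx2⟩ := exists_prime_orderOf_dvd_card' 2 hev
    rw [Subgroup.orderOf_mk] at hx2
    obtain ⟨S, hS⟩ := D.tSub_sylow
    have hp : IsPGroup 2 (zpowers x) := IsPGroup.of_card (n := 1) (by rw [Nat.card_zpowers, hx2]; rfl)
    obtain ⟨P, hP⟩ := hp.exists_le_sylow
    obtain ⟨g, hg⟩ := MulAction.exists_smul_eq G P S
    have hxS : g * x * g⁻¹ ∈ (S : Subgroup G) := by
      rw [← hg, Sylow.coe_subgroup_smul]
      exact ⟨x, hP (mem_zpowers x), rfl⟩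
    have hxC : g * x * g⁻¹ ∈ C := hCn.conj_mem x hx g
    rw [hS] at hxS
    obtain ⟨y, hy, hye⟩ := hxS
    have hy' := (closedL_spec t_closed).1 y hy
    have hyU : y ∈ uList 0 := by
      have h := List.all_eq_true.1 u_self_cent y hy
      have hall : (uList 0).all (cm 0 y) = true := List.all_eq_true.2 fun u hu => by
        rw [← D.commute_iff hy' ((closedL_spec u_facts.2.1).1 u hu), hye]
        exact (mem_centralizer_iff.1 hxC (D.el u) (hUL ⟨u, hu, rfl⟩)).symm
      rw [hall] at h
      simpa using h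
    have h1 := hCL _ hxC (hye ▸ hUL ⟨y, hyU, rfl⟩)
    rw [conj_eq_one_iff] at h1
    rw [h1, orderOf_one] at hx2
    omega
  -- the order
  have hNtop : N ≠ ⊤ := by
    intro htop
    obtain ⟨hmn, hml, hR, hA, hmlt, h64⟩ := m_facts
    have hmM : D.sub m_closed ≤ M := by
      have h64M : D.el 64 ∈ M := by
        rw [← h64, D.el_mul (mul_lt _ _ _) (mul_lt _ _ _)]
        exact hsqM _
      obtain ⟨hult, -, -⟩ := closedL_spec u_facts.2.1
      rintro _ ⟨x, hx, rfl⟩
      simp only [mList, List.mem_append, List.mem_map] at hx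
      rcases hx with (hu | ⟨u, hu, rfl⟩) | ⟨u, hu, rfl⟩
      · exact hUM ⟨x, hu, rfl⟩
      · rw [D.el_mul (hult u hu) (by norm_num)]
        exact mul_mem (hUM ⟨u, hu, rfl⟩) h64M
      · rw [D.el_mul (hult u hu) (mul_lt _ _ _), D.el_mul (by norm_num) (by norm_num)]
        exact mul_mem (hUM ⟨u, hu, rfl⟩) (mul_mem h64M h64M)
    have hnorm : ∀ (l : List ℕ) (hl : closedL 0 l = true), (mList.all fun h => l.all fun x => l.any fun y =>
        Nat.beq (mul 0 h x) (mul 0 y h)) = true →
        ∀ g ∈ D.sub m_closed, ∀ x ∈ D.sub hl, g * x * g⁻¹ ∈ D.sub hl := by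
      rintro l hl hall _ ⟨h, hh, rfl⟩ _ ⟨x, hx, rfl⟩
      have h1 := List.all_eq_true.1 (List.all_eq_true.1 hall h hh) x hx
      simp only [List.any_eq_true, Nat.beq_eq] at h1
      obtain ⟨y, hy, e⟩ := h1
      have hh' := (closedL_spec m_closed).1 h hh
      exact ⟨y, hy, by rw [← D.el_mul hh' ((closedL_spec hl).1 x hx), e,
        D.el_mul ((closedL_spec hl).1 y hy) hh', mul_inv_cancel_right]⟩
    let j : N →* G := M.subtype.comp N.subtype
    have hj : Function.Injective j := M.subtype_injective.comp N.subtype_injective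
    have hzN : (⟨z, hUM (hRU hzW.1)⟩ : M) ∈ N := htop ▸ mem_top _
    refine false_of_large hF hsN iso (z := ⟨⟨z, hUM (hRU hzW.1)⟩, hzN⟩) (mem_inf.2 ⟨hzW.1, hzW.2⟩)
      (fun e => hz1 (congrArg (fun w : N => ((w : M) : G)) e)) ((D.sub m_closed).comap j) ?_ ?_ ?_ ?_
    · have hr : D.sub m_closed ≤ j.range := fun g hg => ⟨⟨⟨g, hmM hg⟩, htop ▸ mem_top _⟩, rfl⟩
      rw [← card_map_of_injective hj, map_comap_eq_self hr, D.card_sub m_closed hmn, hml]
    · intro g hg
      exact CIT.mem_normalizer_of_forall fun x hx => hnorm rList u_facts.2.2.2.2.1 hR _ hg _ hx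
    · intro g hg
      exact CIT.mem_normalizer_of_forall fun x hx => hnorm aList u_facts.2.2.2.2.2.2.2.1 hA _ hg _ hx
    · intro g hg
      refine mem_centralizer_singleton_iff.2 (hj ?_)
      rw [map_mul, map_mul]
      show j g * z = z * j g
      exact mem_centralizer_singleton_iff.1 (D.sub_le _ (mem_comap.1 hg))
  have hG : 241920 ≤ Nat.card G := by
    have h1 : Nat.card M * 4 = Nat.card G := hidx ▸ card_mul_index M
    have h2 : Nat.card N * N.index = Nat.card M := card_mul_index N
    have h3 : N.index ≠ 1 := fun e => hNtop (index_eq_one.1 e)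
    have h4 : ¬ 2 ∣ N.index := fun e => Q.not_dvd_index (e.trans (index_dvd_of_le hQN))
    have h5 : 3 ≤ N.index := by
      have := N.index_ne_zero_of_finite
      omega
    rw [hNc] at h2
    omega
  -- into the automorphisms
  let φ : G →* MulAut (Matrix.ProjectiveSpecialLinearGroup (Fin 3) F) :=
    (MulAut.congr eN).toMonoidHom.comp (MulAut.conjNormal (H := L))
  have hφ : Function.Injective φ := by
    rw [← MonoidHom.ker_eq_bot_iff, eq_bot_iff]
    intro g hg
    have h1 : MulAut.conjNormal (H := L) g = 1 := (MulAut.congr eN).injective (by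
      rw [map_one]; exact MonoidHom.mem_ker.1 hg)
    rw [← hC, mem_centralizer_iff]
    intro l hl
    have h2 := congrArg (fun w : MulAut L => ((w ⟨l, hl⟩ : L) : G)) h1
    simp only [MulAut.conjNormal_apply, MulAut.one_apply] at h2
    exact (mul_inv_eq_iff_eq_mul.1 h2).symm
  haveI : Finite (MulAut (Matrix.ProjectiveSpecialLinearGroup (Fin 3) F)) :=
    Finite.of_injective _ DFunLike.coe_injective
  have hφb : Function.Bijective φ := (Nat.bijective_iff_injective_and_card φ).2
    ⟨hφ, le_antisymm (Nat.card_le_card_of_injective φ hφ) ((card_aut_le hF).trans hG)⟩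
  exact ⟨(MulEquiv.ofBijective φ hφb).trans (MulEquiv.ofBijective restrict (restrict_bijective hF)).symm⟩

end Local

end Cfsg.Agent.AutL34Type
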