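import Cfsg.Agent.Lib.AutL34Type.Setup
import Cfsg.Agent.Lib.AutL34Type.Ident
import Cfsg.Agent.Lib.ZStar.Main
import Cfsg.Prelude.Def_TwoFusion
import Mathlib.GroupTheory.FixedPointFree

/-!
An involution centraliser `2^{1+4}₋.S₄`: the core is abelian and a nonsolvable group is `Aut(PGL₃(4))`.
-/

set_option autoImplicit false
set_option maxRecDepth 100000
set_option linter.unusedSectionVars false
set_option linter.style.haveILetI false

namespace Cfsg.Agent.AutL34Type

open Subgroup

universe u v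

variable {G : Type u} [Group G] [Finite G]

/-- The central involution inverts the core. -/
theorem inverts_oddCore {z : G} (hz : orderOf z = 2) (E : Subgroup ↥(centralizer ({z} : Set G))) [E.Normal]
    (hE32 : Nat.card ↥E = 32) (hCE : centralizer (E : Set ↥(centralizer ({z} : Set G))) ≤ E) :
    IsMulCommutative ↥(Cfsg.oddCore G) ∧ ∀ o ∈ Cfsg.oddCore G, z * o * z⁻¹ = o⁻¹ := by
  set N : Subgroup ↥(centralizer ({z} : Set G)) := (Cfsg.oddCore G).subgroupOf (centralizer ({z} : Set G)) with hN
  haveI : N.Normal := inferInstance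
  have hodd : Odd (Nat.card N) := by
    refine (Cores.oddCore_odd (G := G)).of_dvd_nat ?_
    rw [hN, ← card_map_of_injective (subtype_injective (centralizer ({z} : Set G)))]
    exact card_dvd_of_le (by rw [subgroupOf_map_subtype]; exact inf_le_left)
  have hinf : E ⊓ N = ⊥ := by
    refine inf_eq_bot_of_coprime ?_
    rw [hE32, show (32 : ℕ) = 2 ^ 5 by norm_num]
    exact Nat.Coprime.pow_left 5 (Nat.coprime_two_left.2 hodd)
  have hNbot : ∀ n ∈ N, n = 1 := by
    intro n hn
    have hcen : n ∈ centralizer (E : Set ↥(centralizer ({z} : Set G))) :=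
      mem_centralizer_iff.2 fun x hx =>
        (Subgroup.commute_of_normal_of_disjoint E N inferInstance inferInstance (disjoint_iff.2 hinf) x n hx hn).eq
    have : n ∈ E ⊓ N := mem_inf.2 ⟨hCE hcen, hn⟩
    rwa [hinf, mem_bot] at this
  let φ : Cfsg.oddCore G →* Cfsg.oddCore G := (MulAut.conjNormal (H := Cfsg.oddCore G) z).toMonoidHom
  have hzz : z * z = 1 := by rw [← pow_two, ← hz, pow_orderOf_eq_one]
  have hfpf : MonoidHom.FixedPointFree φ := by
    intro o ho
    have e : z * (o : G) * z⁻¹ = o := by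
      rw [← MulAut.conjNormal_apply]; exact congrArg Subtype.val ho
    have hmem : (o : G) ∈ centralizer ({z} : Set G) :=
      mem_centralizer_singleton_iff.2 (mul_inv_eq_iff_eq_mul.1 e).symm
    have := hNbot ⟨o, hmem⟩ (mem_subgroupOf.2 o.2)
    exact Subtype.ext (congrArg (fun w : centralizer ({z} : Set G) => (w : G)) this)
  have hinv : Function.Involutive φ := by
    intro o
    show MulAut.conjNormal z (MulAut.conjNormal z o) = o
    rw [← MulAut.mul_apply, ← map_mul, hzz, map_one, MulAut.one_apply]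
  refine ⟨⟨⟨fun a b => hfpf.commute_all_of_involutive hinv a b⟩⟩, fun o ho => ?_⟩
  have h := congrFun (hfpf.coe_eq_inv_of_involutive hinv) ⟨o, ho⟩
  have h' := congrArg Subtype.val h
  simpa [φ, MulAut.conjNormal_apply] using h'

/-- The centraliser is solvable. -/
theorem isSolvable_cent {z : G} (E : Subgroup ↥(centralizer ({z} : Set G))) [E.Normal] (hE32 : Nat.card ↥E = 32)
    (e : (↥(centralizer ({z} : Set G)) ⧸ E) ≃* Equiv.Perm (Fin 4)) :
    Group.IsSolvable ↥(centralizer ({z} : Set G)) := by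
  haveI : Fact (Nat.Prime 2) := ⟨Nat.prime_two⟩
  haveI : Group.IsNilpotent E := (IsPGroup.of_card (p := 2) (n := 5) (by rw [hE32]; norm_num) : IsPGroup 2 E).isNilpotent
  haveI : Group.IsSolvable E := inferInstance
  haveI : Group.IsSolvable (Equiv.Perm (Fin 4)) :=
    Perm.ThreeCycleFStar.isSolvable_perm_of_card_le_four (by simp)
  haveI : Group.IsSolvable (↥(centralizer ({z} : Set G)) ⧸ E) :=
    Group.isSolvable_of_isSolvable_injective (f := e.toMonoidHom) e.injective
  exact Group.isSolvable_of_ker_le_range E.subtype (QuotientGroup.mk' E)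
    (by rw [QuotientGroup.ker_mk', range_subtype])

/-- The theorem. -/
theorem main {z : G} (hz : orderOf z = 2) (E : Subgroup ↥(centralizer ({z} : Set G))) [E.Normal]
    (hE : Cfsg.IsExtraspecial 2 ↥E) (hE32 : Nat.card ↥E = 32)
    (hEminus : ∀ A : Subgroup ↥E, Cfsg.IsElementaryAbelian 2 A → Nat.card ↥A ≠ 8)
    (hCE : centralizer (E : Set ↥(centralizer ({z} : Set G))) ≤ E)
    (e : (↥(centralizer ({z} : Set G)) ⧸ E) ≃* Equiv.Perm (Fin 4)) {F : Type v} [Field F] [Fintype F]
    (hF : Fintype.card F = 4) :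
    IsMulCommutative ↥(Cfsg.oddCore G) ∧
      (¬ Group.IsSolvable G → Nonempty (G ≃* MulAut (GL (Fin 3) F ⧸ Subgroup.center (GL (Fin 3) F)))) := by
  obtain ⟨hcomm, hinv⟩ := inverts_oddCore hz E hE32 hCE
  refine ⟨hcomm, fun hns => ?_⟩
  haveI hH := isSolvable_cent E hE32 e
  obtain ⟨k, ⟨D⟩⟩ := exists_local hz E hE hE32 hEminus hCE e
  have hzi : z⁻¹ = z := inv_eq_of_mul_eq_one_right (by rw [← pow_two, ← hz, pow_orderOf_eq_one])
  rcases D.isolated_or_fused with hiso | ⟨hk, hc⟩
  · refine absurd ?_ hns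
    have hI : Cfsg.IsIsolatedInvolution z :=
      ⟨hz, fun g hg => hiso g (mem_centralizer_singleton_iff.2 hg.eq.symm)⟩
    let f : centralizer ({z} : Set G) →* G ⧸ Cfsg.oddCore G :=
      (QuotientGroup.mk' (Cfsg.oddCore G)).comp (centralizer ({z} : Set G)).subtype
    have hf : Function.Surjective f := by
      intro q
      obtain ⟨g, rfl⟩ := QuotientGroup.mk_surjective q
      set o := z * g * z⁻¹ * g⁻¹ with ho
      have hoO : o ∈ Cfsg.oddCore G := ZStar.Main.commutator_mem_oddCore hI g
      obtain ⟨m, hm⟩ := Cores.oddCore_odd (G := G)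
      have hpow : o ^ (2 * m + 1) = 1 := by
        rw [← hm]
        exact congrArg Subtype.val (pow_card_eq_one' (x := (⟨o, hoO⟩ : Cfsg.oddCore G)))
      set o' := o ^ (m + 1) with ho'
      have ho'O : o' ∈ Cfsg.oddCore G := pow_mem hoO _
      have hsq : o' * o' = o := by
        rw [ho', ← pow_add, show m + 1 + (m + 1) = 2 * m + 1 + 1 by omega, pow_succ, hpow, one_mul]
      have hw : g * z * g⁻¹ = z * o := by
        rw [ho, hzi]
        simp only [← mul_assoc]
        rw [show z * z = 1 by rw [← pow_two, ← hz, pow_orderOf_eq_one], one_mul]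
      have hz' : o'⁻¹ * z = z * o' := by
        rw [← hinv o' ho'O, hzi]
        simp only [mul_assoc]
        rw [show z * z = 1 by rw [← pow_two, ← hz, pow_orderOf_eq_one], mul_one]
      have hmem : o' * g ∈ centralizer ({z} : Set G) := by
        rw [mem_centralizer_singleton_iff]
        calc o' * g * z = o' * (g * z * g⁻¹) * g := by group
          _ = o' * (z * (o' * o')) * g := by rw [hw, hsq]
          _ = o' * ((z * o') * o') * g := by group
          _ = o' * (o'⁻¹ * z * o') * g := by rw [← hz']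
          _ = z * (o' * g) := by group
      refine ⟨⟨o' * g, hmem⟩, ?_⟩
      show QuotientGroup.mk (o' * g) = (QuotientGroup.mk g : G ⧸ Cfsg.oddCore G)
      rw [QuotientGroup.mk_mul, (QuotientGroup.eq_one_iff o').2 ho'O, one_mul]
    haveI : Group.IsSolvable (G ⧸ Cfsg.oddCore G) := Group.isSolvable_of_surjective hf
    haveI : Group.IsSolvable (Cfsg.oddCore G) := Group.isSolvable_of_comm fun a b => mul_comm' a b
    exact Group.isSolvable_of_ker_le_range (Cfsg.oddCore G).subtype (QuotientGroup.mk' (Cfsg.oddCore G))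
      (by rw [QuotientGroup.ker_mk', range_subtype])
  · subst hk
    have hO : Cfsg.oddCore G = ⊥ := by
      rw [eq_bot_iff]
      intro o ho
      have hconj : ∀ x, IsConj z x → ∀ o ∈ Cfsg.oddCore G, x * o * x⁻¹ = o⁻¹ := by
        intro x hx o ho
        obtain ⟨g, rfl⟩ := isConj_iff.1 hx
        have h' := hinv (g⁻¹ * o * g) (by
          simpa using (inferInstance : (Cfsg.oddCore G).Normal).conj_mem o ho g⁻¹)
        calc g * z * g⁻¹ * o * (g * z * g⁻¹)⁻¹ = g * (z * (g⁻¹ * o * g) * z⁻¹) * g⁻¹ := by group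
          _ = o⁻¹ := by rw [h']; group
      obtain ⟨-, hprod, -, h32⟩ := D.ez_facts
      have hc31 : IsConj z (D.el 31) := hc.trans (isConj_iff.2 ⟨D.el 32, h32.symm⟩)
      have h1 := hinv o ho
      have h2 : z * o * z⁻¹ = o := by
        rw [← hprod, _root_.mul_inv_rev,
          show D.el 15 * D.el 31 * o * ((D.el 31)⁻¹ * (D.el 15)⁻¹) =
            D.el 15 * (D.el 31 * o * (D.el 31)⁻¹) * (D.el 15)⁻¹ by group,
          hconj _ hc31 o ho, hconj _ hc _ (inv_mem ho), inv_inv]
      rw [h2] at h1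
      rw [mem_bot]
      have h3 : o ^ 2 = 1 := by rw [pow_two]; nth_rw 2 [h1]; exact mul_inv_cancel o
      have h4 : orderOf o ∣ 2 := orderOf_dvd_of_pow_eq_one h3
      have h5 : orderOf (⟨o, ho⟩ : Cfsg.oddCore G) ∣ Nat.card (Cfsg.oddCore G) := orderOf_dvd_natCard _
      rw [Subgroup.orderOf_mk] at h5
      rcases (Nat.dvd_prime Nat.prime_two).1 h4 with h6 | h6
      · exact orderOf_eq_one_iff.1 h6
      · rw [h6] at h5
        exact absurd (even_iff_two_dvd.2 h5) (Nat.not_even_iff_odd.2 Cores.oddCore_odd)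
    exact D.iso_mulAut hc hO hH hns hF

end Cfsg.Agent.AutL34Type
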