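import Cfsg.Agent.Lib.AutL34Type.Transport
import Mathlib.GroupTheory.Nilpotent
import Mathlib.GroupTheory.Sylow

/-!
Which classes of involutions of the centraliser meet the class of the central involution.
-/

set_option autoImplicit false
set_option maxRecDepth 100000
set_option linter.unusedSectionVars false
set_option linter.style.haveILetI false

namespace Cfsg.Agent.AutL34Type

open Subgroup

universe u

variable {G : Type u} [Group G] [Finite G]

/-- Conjugation as an equivalence of subtypes. -/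
theorem card_conj (g : G) {p q : G → Prop} (h : ∀ x, p x ↔ q (g * x * g⁻¹)) :
    Nat.card {x // p x} = Nat.card {x // q x} :=
  Nat.card_congr (Equiv.subtypeEquiv (MulAut.conj g).toEquiv fun x => by simpa using h x)

theorem commute_conj_iff (g a b : G) :
    g * a * g⁻¹ * (g * b * g⁻¹) = g * b * g⁻¹ * (g * a * g⁻¹) ↔ a * b = b * a := by
  constructor
  · intro e
    calc a * b = g⁻¹ * (g * a * g⁻¹ * (g * b * g⁻¹)) * g := by group
      _ = g⁻¹ * (g * b * g⁻¹ * (g * a * g⁻¹)) * g := by rw [e]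
      _ = b * a := by group
  · intro e
    calc g * a * g⁻¹ * (g * b * g⁻¹) = g * (a * b) * g⁻¹ := by group
      _ = g * (b * a) * g⁻¹ := by rw [e]
      _ = _ := by group

namespace Local

variable {k : ℕ} {z : G} (D : Local k z)

theorem classes_spec {y : ℕ} (hy : y < 768) (hi : isInv k y = true) :
    ∃ r ∈ reps k, ∃ h < 768, D.el y = D.el h * D.el r * (D.el h)⁻¹ := by
  have := List.all_eq_true.1 (classes k D.k_lt) y (List.mem_range.2 hy)
  rw [hi] at this
  simp only [Bool.not_true, Bool.false_or, Bool.and_eq_true, decide_eq_true_eq, List.any_eq_true, Nat.beq_eq] at this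
  obtain ⟨hw, r, hr, e⟩ := this
  refine ⟨r, hr, wit k y, hw, ?_⟩
  rw [eq_mul_inv_iff_mul_eq, ← D.el_mul hy hw, ← D.el_mul hw (reps_inv k D.k_lt r hr).1, e]

theorem h_fix {h : ℕ} (hh : h < 768) : D.el h * z * (D.el h)⁻¹ = z := by
  rw [mem_centralizer_singleton_iff.1 (D.el_mem hh), mul_inv_cancel_right]

/-- The profile of a representative as a subgroup. -/
noncomputable def profSub {r : ℕ} (hr : r ∈ reps k) : Subgroup G :=
  D.sub (prof_ok k D.k_lt r hr).2.1

theorem profSub_le {r : ℕ} (hr : r ∈ reps k) : D.profSub hr ≤ centralizer ({D.el r} : Set G) := by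
  obtain ⟨-, hcl, hc, -⟩ := prof_ok k D.k_lt r hr
  rintro _ ⟨x, hx, rfl⟩
  rw [mem_centralizer_singleton_iff, D.commute_iff ((closedL_spec hcl).1 x hx) (reps_inv k D.k_lt r hr).1]
  have := List.all_eq_true.1 hc x hx
  simp only [cm, Nat.beq_eq] at this ⊢
  exact this.symm

theorem profSub_card {r : ℕ} (hr : r ∈ reps k) : Nat.card (D.profSub hr) = (prof k r).length :=
  D.card_sub _ (prof_ok k D.k_lt r hr).1

theorem profSub_isPGroup {r : ℕ} (hr : r ∈ reps k) : IsPGroup 2 (D.profSub hr) := by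
  have h := (prof_ok k D.k_lt r hr).2.2.2
  simp only [List.mem_cons, List.not_mem_nil, or_false] at h
  rcases h with h | h | h
  · exact IsPGroup.of_card (n := 4) (by rw [D.profSub_card, h]; norm_num)
  · exact IsPGroup.of_card (n := 5) (by rw [D.profSub_card, h]; norm_num)
  · exact IsPGroup.of_card (n := 6) (by rw [D.profSub_card, h]; norm_num)

/-- The profile of a rigid representative is a maximal 2-subgroup of the centraliser. -/
theorem rigid_max {r : ℕ} (hr : r ∈ reps k) (hrr : r ∈ rigidReps k) (Q : Subgroup G)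
    (hQC : Q ≤ centralizer ({D.el r} : Set G)) (hQ : IsPGroup 2 Q) (hPQ : D.profSub hr ≤ Q) :
    Q = D.profSub hr := by
  haveI : Fact (Nat.Prime 2) := ⟨Nat.prime_two⟩
  obtain ⟨-, hpow, hex, hdiv, hodd⟩ := rigid_ok k D.k_lt r hrr
  obtain ⟨hnd, hcl, -, -⟩ := prof_ok k D.k_lt r hr
  set P := D.profSub hr with hP
  by_contra hne
  haveI : Group.IsNilpotent Q := hQ.isNilpotent
  have hlt : P.subgroupOf Q < ⊤ := by
    rw [lt_top_iff_ne_top]
    intro e
    rw [subgroupOf_eq_top] at e
    exact hne (le_antisymm e hPQ)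
  obtain ⟨n, hnN, hnP⟩ := SetLike.exists_of_lt (normalizerCondition_of_isNilpotent (P.subgroupOf Q) hlt)
  have hnP' : (n : G) ∉ P := fun e => hnP (mem_subgroupOf.2 e)
  have hconj : ∀ p ∈ P, (n : G) * p * (n : G)⁻¹ ∈ P := by
    intro p hp
    have := (mem_normalizer_iff.1 hnN ⟨p, hPQ hp⟩).1 (mem_subgroupOf.2 hp)
    simpa [mem_subgroupOf] using this
  obtain ⟨x, hx, hxp⟩ := List.any_eq_true.1 hex
  rw [Nat.beq_eq] at hxp
  have hx' := (closedL_spec hcl).1 x hx
  obtain ⟨y, hy, hye⟩ := hconj (D.el x) ⟨x, hx, rfl⟩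
  have hy' := (closedL_spec hcl).1 y hy
  have hnz : (n : G) * z * (n : G)⁻¹ = z := by
    have e : (n : G) * z * (n : G)⁻¹ = D.el (sqn k (expo r) y) := by
      rw [D.el_sqn _ _ hy', hye, conj_pow, ← D.el_sqn _ _ hx', hxp, D.z_eq]
    have h2 := List.all_eq_true.1 hpow y hy
    simp only [Bool.or_eq_true, Nat.beq_eq] at h2
    rcases h2 with h0 | h0
    · rw [h0, D.el_zero, conj_eq_one_iff, ← D.z_eq, D.el_eq_one_iff (by norm_num)] at e
      norm_num at e
    · rwa [h0, D.z_eq] at e
  have hrlt := (reps_inv k D.k_lt r hr).1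
  have hl : ∀ x ∈ [r], x < 768 := by simpa using hrlt
  set Q' := Q ⊓ cent z ([r].map D.el) with hQ'
  have hsub : ∀ g ∈ Q, g * z * g⁻¹ = z → g ∈ Q' := by
    intro g hg hgz
    refine mem_inf.2 ⟨hg, mem_cent.2 ⟨mem_centralizer_singleton_iff.2 ?_, ?_⟩⟩
    · calc g * z = g * z * g⁻¹ * g := by group
        _ = z * g := by rw [hgz]
    · simp only [List.map_cons, List.map_nil, List.mem_cons, List.not_mem_nil, or_false, forall_eq]
      exact mem_centralizer_singleton_iff.1 (hQC hg)
  have hP' : P ≤ Q' := fun p hp => hsub p (hPQ hp) (by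
    obtain ⟨v, hv, rfl⟩ := hp
    exact D.h_fix ((closedL_spec hcl).1 v hv))
  have hPne : P ≠ Q' := fun e => hnP' (e ▸ hsub n n.2 hnz)
  obtain ⟨m, hm⟩ := IsPGroup.iff_card.1 (hQ.to_le (inf_le_left : Q' ≤ Q))
  have hdvd : Nat.card Q' ∣ centCount k [r] :=
    D.card_cent hl ▸ card_dvd_of_le (inf_le_right : Q' ≤ cent z ([r].map D.el))
  obtain ⟨c, hc⟩ := Nat.dvd_of_mod_eq_zero hdiv
  have hlen : 0 < (prof k r).length := by rw [← D.profSub_card hr]; exact Nat.card_pos
  rw [hc, Nat.mul_div_cancel_left _ hlen] at hodd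
  have hcop : Nat.Coprime (Nat.card Q') c := by
    rw [hm]
    exact Nat.Coprime.pow_left m (Nat.coprime_two_left.2 (Nat.odd_iff.2 hodd))
  have hle : Nat.card Q' ≤ Nat.card P := by
    rw [D.profSub_card hr]
    exact Nat.le_of_dvd hlen (hcop.dvd_of_dvd_mul_right (hc ▸ hdvd))
  exact hPne (eq_of_le_of_card_ge hP' hle)

/-- Every 2-subgroup of the centraliser of a rigid representative has a conjugate in the profile. -/
theorem rigid_conj {r : ℕ} (hr : r ∈ reps k) (hrr : r ∈ rigidReps k) (Q : Subgroup G)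
    (hQC : Q ≤ centralizer ({D.el r} : Set G)) (hQ : IsPGroup 2 Q) :
    ∃ c : G, ∀ q ∈ Q, c * q * c⁻¹ ∈ D.profSub hr := by
  haveI : Fact (Nat.Prime 2) := ⟨Nat.prime_two⟩
  set C := centralizer ({D.el r} : Set G) with hC
  have hPC := D.profSub_le hr
  obtain ⟨S, hS⟩ := ((D.profSub_isPGroup hr).of_equiv (subgroupOfEquivOfLe hPC).symm).exists_le_sylow
  have hSe : (S : Subgroup C).map C.subtype = D.profSub hr := by
    refine D.rigid_max hr hrr _ (map_subtype_le _) (S.2.map _) fun p hp => ?_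
    exact ⟨⟨p, hPC hp⟩, hS (mem_subgroupOf.2 hp), rfl⟩
  obtain ⟨T, hT⟩ := (hQ.of_equiv (subgroupOfEquivOfLe hQC).symm).exists_le_sylow
  obtain ⟨c, hc⟩ := MulAction.exists_smul_eq C T S
  refine ⟨c, fun q hq => ?_⟩
  rw [← hSe]
  refine ⟨c * ⟨q, hQC hq⟩ * c⁻¹, ?_, rfl⟩
  rw [← hc, Sylow.coe_subgroup_smul]
  exact ⟨⟨q, hQC hq⟩, hT (mem_subgroupOf.2 hq), rfl⟩

/-- Conjugate involutions have comparable profiles. -/
theorem profile_of_conj {r x : ℕ} (hr : r ∈ reps k) (hrr : r ∈ rigidReps k) (hx : x ∈ reps k)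
    (hc : IsConj (D.el x) (D.el r)) :
    (prof k x).length ≤ (prof k r).length ∧
      ((prof k x).length = (prof k r).length → ∀ j, killCount k j (prof k x) = killCount k j (prof k r)) := by
  haveI : Fact (Nat.Prime 2) := ⟨Nat.prime_two⟩
  obtain ⟨g, hg⟩ := isConj_iff.1 hc
  set P := D.profSub hx with hP
  obtain ⟨c, hc'⟩ := D.rigid_conj hr hrr (P.map (MulAut.conj g).toMonoidHom) (by
    rintro _ ⟨p, hp, rfl⟩
    show g * p * g⁻¹ ∈ centralizer ({D.el r} : Set G)
    rw [mem_centralizer_singleton_iff, ← hg, commute_conj_iff]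
    exact mem_centralizer_singleton_iff.1 (D.profSub_le hx hp)) ((D.profSub_isPGroup hx).map _)
  have hmap : ∀ p ∈ P, c * g * p * (c * g)⁻¹ ∈ D.profSub hr := fun p hp => by
    have := hc' _ ⟨p, hp, rfl⟩
    rwa [show c * ((MulAut.conj g).toMonoidHom p) * c⁻¹ = c * g * p * (c * g)⁻¹ by
      show c * (g * p * g⁻¹) * c⁻¹ = _
      group] at this
  let f : P → D.profSub hr := fun p => ⟨c * g * p * (c * g)⁻¹, hmap p p.2⟩
  have hf : Function.Injective f := fun p q e => by
    have e' := congrArg Subtype.val e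
    exact Subtype.ext (mul_left_cancel (mul_right_cancel e'))
  have hle := Nat.card_le_card_of_injective f hf
  rw [D.profSub_card, D.profSub_card] at hle
  refine ⟨hle, fun heq j => ?_⟩
  have hfb : Function.Bijective f := (Nat.bijective_iff_injective_and_card f).2
    ⟨hf, by rw [D.profSub_card, D.profSub_card, heq]⟩
  rw [← D.card_kill (prof_ok k D.k_lt x hx).2.1 (prof_ok k D.k_lt x hx).1,
    ← D.card_kill (prof_ok k D.k_lt r hr).2.1 (prof_ok k D.k_lt r hr).1]
  refine Nat.card_congr (Equiv.subtypeEquiv (Equiv.ofBijective f hfb) fun p => ?_)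
  show (p : G) ^ 2 ^ j = 1 ↔ (c * g * (p : G) * (c * g)⁻¹) ^ 2 ^ j = 1
  rw [conj_pow, conj_eq_one_iff]

theorem not_conj_z_rigid {r : ℕ} (hrr : r ∈ rigidReps k) : ¬ IsConj z (D.el r) := by
  intro hc
  have h16 : 16 ∈ reps k := by
    have : ∀ k < 4, 16 ∈ reps k := by decide +kernel
    exact this k D.k_lt
  have h := (D.profile_of_conj (rigid_ok k D.k_lt r hrr).1 hrr h16 (by rwa [D.z_eq])).1
  exact absurd h (Nat.not_le.2 (rigid_lt k D.k_lt r hrr))

theorem ez_facts : D.el 31 = z * D.el 15 ∧ D.el 15 * D.el 31 = z ∧ D.el 31 * D.el 15 = z ∧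
    D.el 31 = D.el 32 * D.el 15 * (D.el 32)⁻¹ := by
  obtain ⟨-, h32, h1, h2, -, -⟩ := conj_fifteen k D.k_lt
  have hc : cm k 15 31 = true := by
    have : ∀ k < 4, cm k 15 31 = true := by decide +kernel
    exact this k D.k_lt
  have e1 : D.el 15 * D.el 31 = z := by rw [← D.el_mul (by norm_num) (by norm_num), h2, D.z_eq]
  refine ⟨?_, e1, ?_, ?_⟩
  · calc D.el 31 = D.el 16 * D.el 15 := by rw [← D.el_mul (by norm_num) (by norm_num), h1]
      _ = z * D.el 15 := by rw [D.z_eq]
  · rw [← (D.commute_iff (by norm_num) (by norm_num)).2 hc, e1]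
  · rw [← D.el_mul (by norm_num) (by norm_num), h32, D.el_mul (by norm_num) (by norm_num), mul_inv_cancel_right]

/-- A conjugate of `z` in its centraliser other than `z`. -/
theorem conj_cases {w : G} (hzw : IsConj z w) (hw : w ∈ centralizer ({z} : Set G)) (hne : w ≠ z) :
    (w = D.el 15 ∨ w = D.el 31) ∨
      (96 ∈ reps k ∧ ∃ h < 768, w = D.el h * D.el 96 * (D.el h)⁻¹) := by
  obtain ⟨y, hy, rfl⟩ := (D.mem' w).1 hw
  have hiy : isInv k y = true := by
    rw [← D.inv_iff hy]
    obtain ⟨g, hg⟩ := isConj_iff.1 hzw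
    have hz2 : orderOf z = 2 := by
      rw [← D.z_eq, D.inv_iff (by norm_num)]
      exact (conj_sixteen k D.k_lt).2.1
    rw [← hg, ← MulAut.conj_apply, MulEquiv.orderOf_eq]
    exact hz2
  obtain ⟨r, hr, h, hh, e⟩ := D.classes_spec hy hiy
  rcases rep_split k D.k_lt r hr with rfl | rfl | rfl | hrr
  · rw [D.z_eq, D.h_fix hh] at e
    exact absurd e hne
  · have hf := List.all_eq_true.1 (conj_fifteen k D.k_lt).1 h (List.mem_range.2 hh)
    simp only [Bool.and_eq_true, Bool.or_eq_true, Nat.beq_eq] at hf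
    rcases hf.1 with e1 | e1
    · left; left
      rw [e, ← D.el_mul hh (by norm_num), e1, D.el_mul (by norm_num) hh, mul_inv_cancel_right]
    · left; right
      rw [e, ← D.el_mul hh (by norm_num), e1, D.el_mul (by norm_num) hh, mul_inv_cancel_right]
  · exact Or.inr ⟨hr, h, hh, e⟩
  · refine absurd (hzw.trans (isConj_iff.2 ⟨(D.el h)⁻¹, ?_⟩)) (D.not_conj_z_rigid hrr)
    rw [e]; group

/-- Fusion of `z` with `15` forces the first model. -/
theorem model_of_conj_fifteen (hc : IsConj z (D.el 15)) : k = 0 := by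
  obtain ⟨g, hg⟩ := isConj_iff.1 hc
  set x' := g⁻¹ * z * g with hx'
  have hze : z * D.el 15 = D.el 15 * z := (mem_centralizer_singleton_iff.1 (D.el_mem (by norm_num))).symm
  have hgx : g * x' * g⁻¹ = z := by rw [hx']; group
  have hx'C : x' ∈ centralizer ({z} : Set G) := by
    rw [mem_centralizer_singleton_iff]
    refine (commute_conj_iff g _ _).1 ?_
    rw [hgx, hg, hze]
  have hne : x' ≠ z := fun e => by
    have h15 : D.el 15 = z := by rw [← hg, ← e]; rw [hgx, e]
    exact absurd ((D.el_eq_z_iff (by norm_num)).1 h15) (by norm_num)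
  have hcard : Nat.card (cent z [x']) = 384 := by
    have h : Nat.card (cent z [x']) = Nat.card (cent z ([15].map D.el)) := by
      refine card_conj g fun w => ?_
      simp only [mem_cent, List.map_cons, List.map_nil, List.mem_cons, List.not_mem_nil, or_false, forall_eq,
        mem_centralizer_singleton_iff]
      rw [← hg, ← commute_conj_iff g w z, ← commute_conj_iff g w x', hgx, hg]
      exact and_comm
    rw [h, D.card_cent (by simp), (cent_counts k D.k_lt).1]
  have hmap : ∀ r h, h < 768 → Nat.card (cent z [D.el h * D.el r * (D.el h)⁻¹]) =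
      Nat.card (cent z ([r].map D.el)) := by
    intro r h hh
    refine (card_conj (D.el h) fun w => ?_).symm
    simp only [mem_cent, List.map_cons, List.map_nil, List.mem_cons, List.not_mem_nil, or_false, forall_eq,
      mem_centralizer_singleton_iff]
    rw [← commute_conj_iff (D.el h) w z, ← commute_conj_iff (D.el h) w (D.el r), D.h_fix hh]
  have hx15 : x' = D.el 15 ∨ x' = D.el 31 := by
    refine (D.conj_cases (isConj_iff.2 ⟨g⁻¹, by rw [hx', inv_inv]⟩) hx'C hne).resolve_right ?_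
    rintro ⟨h96, h, hh, e⟩
    rw [e, hmap 96 h hh, D.card_cent (by simpa using (reps_inv k D.k_lt 96 h96).1),
      (cent_counts k D.k_lt).2 h96] at hcard
    omega
  have hcx : ∀ w ∈ centralizer ({z} : Set G), (w * x' = x' * w ↔ w * D.el 15 = D.el 15 * w) := by
    intro w hw
    obtain ⟨v, hv, rfl⟩ := (D.mem' w).1 hw
    have hf := List.all_eq_true.1 (conj_fifteen k D.k_lt).1 v (List.mem_range.2 hv)
    simp only [Bool.and_eq_true, beq_iff_eq] at hf
    rcases hx15 with e | e <;> rw [e]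
    rw [D.commute_iff hv (by norm_num), D.commute_iff hv (by norm_num), hf.2]
  have hroot : Nat.card {w : G // w ∈ centralizer ({z} : Set G) ∧ (w * D.el 15 = D.el 15 * w ∧ w * w = z)} =
      Nat.card {w : G // w ∈ centralizer ({z} : Set G) ∧ (w * D.el 15 = D.el 15 * w ∧ w * w = D.el 15)} := by
    refine card_conj g fun w => ?_
    have e1 : g * w * g⁻¹ * (g * w * g⁻¹) = g * (w * w) * g⁻¹ := by group
    constructor
    · rintro ⟨hw, hw15, hw2⟩
      refine ⟨?_, ?_, by rw [e1, hw2, hg]⟩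
      · rw [mem_centralizer_singleton_iff, ← hgx, commute_conj_iff]
        exact (hcx w hw).2 hw15
      · rw [← hg, commute_conj_iff]
        exact mem_centralizer_singleton_iff.1 hw
    · rintro ⟨hw, hw15, hw2⟩
      have hwz : w * z = z * w := by
        rw [← hg, commute_conj_iff] at hw15
        exact hw15
      have hwC : w ∈ centralizer ({z} : Set G) := mem_centralizer_singleton_iff.2 hwz
      refine ⟨hwC, (hcx w hwC).1 ?_, ?_⟩
      · rw [mem_centralizer_singleton_iff, ← hgx, commute_conj_iff] at hw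
        exact hw
      · rw [e1, ← hg] at hw2
        exact mul_left_cancel (mul_right_cancel hw2)
  have hrc : ∀ v < 768, Nat.card {w : G // w ∈ centralizer ({z} : Set G) ∧
      (w * D.el 15 = D.el 15 * w ∧ w * w = D.el v)} = rootCount k v := by
    intro v hv
    refine D.card_pred (fun w => w * D.el 15 = D.el 15 * w ∧ w * w = D.el v) _ fun x hx => ?_
    rw [Bool.and_eq_true, Nat.beq_eq, D.commute_iff hx (by norm_num), ← D.el_mul hx hx]
    exact and_congr_right fun _ => ⟨fun e => D.el_inj (mul_lt _ _ _) hv e, fun e => e ▸ rfl⟩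
  refine root_counts k D.k_lt ?_
  rw [← hrc 16 (by norm_num), ← hrc 15 (by norm_num), D.z_eq]
  exact hroot

/-- Either `z` is isolated or the model is the first one and `z` is fused with `15`. -/
theorem isolated_or_fused : (∀ g : G, g * z * g⁻¹ ∈ centralizer ({z} : Set G) → g * z * g⁻¹ = z) ∨
    (k = 0 ∧ IsConj z (D.el 15)) := by
  by_contra hne
  rw [not_or] at hne
  obtain ⟨hiso, hk⟩ := hne
  have hn15 : ¬ IsConj z (D.el 15) := fun e => hk ⟨D.model_of_conj_fifteen e, e⟩
  have hn31 : ¬ IsConj z (D.el 31) := fun e => hn15 (e.trans (isConj_iff.2 ⟨(D.el 32)⁻¹, by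
    rw [D.ez_facts.2.2.2]; group⟩))
  push Not at hiso
  obtain ⟨g₀, hg₀, hg₀ne⟩ := hiso
  have hcase : ∀ w, IsConj z w → w ∈ centralizer ({z} : Set G) → w ≠ z →
      96 ∈ reps k ∧ ∃ h < 768, w = D.el h * D.el 96 * (D.el h)⁻¹ := by
    intro w h1 h2 h3
    refine (D.conj_cases h1 h2 h3).resolve_left ?_
    rintro (rfl | rfl)
    · exact hn15 h1
    · exact hn31 h1
  obtain ⟨h96, h, hh, e⟩ := hcase _ (isConj_iff.2 ⟨g₀, rfl⟩) hg₀ hg₀ne
  obtain ⟨u96, u31, c15, c31, hall⟩ := u_counts k D.k_lt h96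
  have h96' := (reps_inv k D.k_lt 96 h96).1
  set g := (D.el h)⁻¹ * g₀ with hgdef
  set u := D.el 96 with hu
  have hg : g * z * g⁻¹ = u := by
    rw [hgdef, show (D.el h)⁻¹ * g₀ * z * ((D.el h)⁻¹ * g₀)⁻¹ = (D.el h)⁻¹ * (g₀ * z * g₀⁻¹) * D.el h by group, e]
    group
  have huz : u ≠ z := fun e' => absurd ((D.el_eq_z_iff h96').1 e') (by norm_num)
  have huC : u * z = z * u := mem_centralizer_singleton_iff.1 (D.el_mem h96')
  set x' := g⁻¹ * z * g with hx'
  have hgx : g * x' * g⁻¹ = z := by rw [hx']; group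
  obtain ⟨-, h₂, hh₂, e₂⟩ := hcase x' (isConj_iff.2 ⟨g⁻¹, by rw [hx', inv_inv]⟩) (by
      rw [mem_centralizer_singleton_iff, ← commute_conj_iff g, hgx, hg, huC])
    (fun e' => huz (by rw [← hg, ← e', hgx, e']))
  -- an element exchanging `z` and `u`
  set s := g * D.el h₂ with hs
  have hsz : s * z * s⁻¹ = u := by
    rw [hs, show g * D.el h₂ * z * (g * D.el h₂)⁻¹ = g * (D.el h₂ * z * (D.el h₂)⁻¹) * g⁻¹ by group,
      D.h_fix hh₂, hg]
  have hsu : s * u * s⁻¹ = z := by
    rw [hs, show g * D.el h₂ * u * (g * D.el h₂)⁻¹ = g * (D.el h₂ * u * (D.el h₂)⁻¹) * g⁻¹ by group, ← e₂, hgx]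
  have key : ∀ v < 768, cm k 96 v = true → centCount k [96, v] = 16 → isInv k v = true →
      ¬ IsConj z (D.el v) → ∃ v', (v' = 15 ∨ v' = 31) ∧ s * D.el v * s⁻¹ = D.el v' := by
    intro v hv hcv hn hiv hnc
    have hvz := mem_centralizer_singleton_iff.1 (D.el_mem hv)
    have hvu : u * D.el v = D.el v * u := (D.commute_iff h96' hv).2 hcv
    have hwC : s * D.el v * s⁻¹ ∈ centralizer ({z} : Set G) := by
      rw [mem_centralizer_singleton_iff]
      calc s * D.el v * s⁻¹ * z = s * D.el v * s⁻¹ * (s * u * s⁻¹) := by rw [hsu]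
        _ = s * u * s⁻¹ * (s * D.el v * s⁻¹) := (commute_conj_iff s _ _).2 hvu.symm
        _ = z * (s * D.el v * s⁻¹) := by rw [hsu]
    obtain ⟨y, hy, hye⟩ := (D.mem' _).1 hwC
    refine ⟨y, ?_, hye.symm⟩
    have hiy : isInv k y = true := by
      rw [← D.inv_iff hy, hye, ← MulAut.conj_apply, MulEquiv.orderOf_eq, D.inv_iff hv, hiv]
    have hcy : cm k 96 y = true := by
      rw [← D.commute_iff h96' hy, hye, show D.el 96 = s * z * s⁻¹ from hsz.symm, commute_conj_iff, hvz]
    have hny : centCount k [96, y] = 16 := by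
      have hl : ∀ w < 768, ∀ x ∈ [96, w], x < 768 := fun w hw x hx => by
        simp only [List.mem_cons, List.not_mem_nil, or_false] at hx
        rcases hx with rfl | rfl <;> assumption
      rw [← hn, ← D.card_cent (hl y hy), ← D.card_cent (hl v hv)]
      refine (card_conj s fun w => ?_).symm
      simp only [mem_cent, List.map_cons, List.map_nil, List.mem_cons, List.not_mem_nil, or_false, forall_eq_or_imp,
        forall_eq, mem_centralizer_singleton_iff]
      rw [show D.el 96 = u from rfl, hye, ← commute_conj_iff s w z, ← commute_conj_iff s w u,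
        ← commute_conj_iff s w (D.el v), hsz, hsu]
      tauto
    have hf := List.all_eq_true.1 hall y (List.mem_range.2 hy)
    simp only [hiy, hcy, hny, Bool.and_self, Bool.not_true, Bool.false_or, Nat.beq_refl, Bool.or_eq_true,
      Nat.beq_eq] at hf
    rcases hf with (h0 | h0) | h0
    · exact Or.inl h0
    · exact Or.inr h0
    · refine absurd ?_ hnc
      have hw' : wit k y < 768 := by
        have h1 : ∀ k < 4, ∀ y < 768, wit k y % 1024 = wit k y := fun k _ y _ => Nat.mod_mod _ _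
        have h2 := List.all_eq_true.1 (classes k D.k_lt) y (List.mem_range.2 hy)
        simp only [hiy, Bool.not_true, Bool.false_or, Bool.and_eq_true, decide_eq_true_eq] at h2
        exact h2.1
      have hconj : D.el (wit k y) * u * (D.el (wit k y))⁻¹ = D.el y := by
        rw [← D.el_mul hw' h96', h0, D.el_mul hy hw', mul_inv_cancel_right]
      refine ((isConj_iff.2 ⟨s, hsz⟩ : IsConj z u).trans (isConj_iff.2 ⟨_, hconj⟩)).trans ?_
      exact isConj_iff.2 ⟨s⁻¹, by rw [hye]; group⟩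
  obtain ⟨i15, i31⟩ : isInv k 15 = true ∧ isInv k 31 = true :=
    ⟨(conj_sixteen k D.k_lt).2.2, (conj_fifteen k D.k_lt).2.2.2.2.2⟩
  obtain ⟨v₁, hv₁, e1⟩ := key 15 (by norm_num) u96 c15 i15 hn15
  obtain ⟨v₂, hv₂, e2⟩ := key 31 (by norm_num) u31 c31 i31 hn31
  obtain ⟨-, hprod, hprod', -⟩ := D.ez_facts
  have hne' : v₁ ≠ v₂ := fun e' => by
    rw [e', ← e2] at e1
    exact absurd (D.el_inj (by norm_num) (by norm_num) (mul_left_cancel (mul_right_cancel e1))) (by norm_num)
  have hsz' : s * z * s⁻¹ = z := by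
    conv_lhs => rw [← hprod]
    rw [show s * (D.el 15 * D.el 31) * s⁻¹ = s * D.el 15 * s⁻¹ * (s * D.el 31 * s⁻¹) by group, e1, e2]
    rcases hv₁ with rfl | rfl <;> rcases hv₂ with rfl | rfl
    exacts [absurd rfl hne', hprod, hprod', absurd rfl hne']
  exact huz (hsz.symm.trans hsz')

end Local

end Cfsg.Agent.AutL34Type
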