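import Cfsg.Agent.Lib.AutL34Type.Model

/-!
An involution centraliser given by one of the four models: transport of counts and conjugacy.
-/

set_option autoImplicit false

namespace Cfsg.Agent.AutL34Type

open Subgroup

universe u

variable {G : Type u} [Group G]

/-- The centraliser of `z` is given by the model `k`, with `z` at code 16. -/
structure Local (k : ℕ) (z : G) where
  /-- The element of a code. -/
  el : ℕ → G
  k_lt : k < 4
  mul' : ∀ x < 768, ∀ y < 768, el (mul k x y) = el x * el y
  inj' : ∀ x < 768, ∀ y < 768, el x = el y → x = y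
  mem' : ∀ g, g ∈ centralizer ({z} : Set G) ↔ ∃ x < 768, el x = g
  z_eq : el 16 = z

theorem mul_lt (k x y : ℕ) : mul k x y < 768 := by
  have h1 : qmul (qmul (x % 32) (act (x / 32 % 24) (y % 32))) (16 * cc k (x / 32 % 24) (y / 32 % 24)) < 32 :=
    Nat.mod_lt _ (by norm_num)
  have h2 : ∀ s < 24, ∀ t < 24, pm s t < 24 := by decide +kernel
  have := h2 (x / 32 % 24) (Nat.mod_lt _ (by norm_num)) (y / 32 % 24) (Nat.mod_lt _ (by norm_num))
  simp only [mul]
  omega

namespace Local

variable {k : ℕ} {z : G} (D : Local k z)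

theorem el_mul {x y : ℕ} (hx : x < 768) (hy : y < 768) : D.el (mul k x y) = D.el x * D.el y :=
  D.mul' x hx y hy

theorem el_inj {x y : ℕ} (hx : x < 768) (hy : y < 768) (h : D.el x = D.el y) : x = y :=
  D.inj' x hx y hy h

theorem el_mem {x : ℕ} (hx : x < 768) : D.el x ∈ centralizer ({z} : Set G) :=
  (D.mem' _).2 ⟨x, hx, rfl⟩

end Local

end Cfsg.Agent.AutL34Type
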