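import Cfsg.Agent.Lib.AutL34Type.Model

/-!
Generators satisfying the relations of one of the four models give a map from the model.
-/

set_option autoImplicit false
set_option maxRecDepth 100000

namespace Cfsg.Agent.AutL34Type

universe u

variable {G : Type u} [Group G]

/-- Four involutions which anticommute pairwise up to a central involution. -/
structure Four (z : G) where
  /-- The involutions. -/
  f : Fin 4 → G
  zz : z * z = 1
  zf : ∀ i, z * f i = f i * z
  sq : ∀ i, f i * f i = 1
  swap : ∀ i j, i < j → f j * f i = z * (f i * f j)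

/-- Four involutions and two further elements with the relations of a model. -/
structure Gens (k : ℕ) (z : G) extends Four z where
  /-- The element over the cycle of length four. -/
  a : G
  /-- The element over the cycle of length three. -/
  b : G
  k_lt : k < 4
  za : z * a = a * z
  zb : z * b = b * z
  af : ∀ i, a * f i = f (![1, 2, 3, 0] i) * a
  bf : ∀ i, b * f i = f (![2, 0, 1, 3] i) * b
  a4 : a * (a * (a * a)) = z ^ (k % 2)
  b3 : b * (b * b) = 1
  ab2 : a * (b * (a * b)) = z ^ (k / 2)

namespace Four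

variable {z : G} (P : Four z)

/-- The element of a code of the extraspecial group. -/
def ph (q : ℕ) : G :=
  z ^ (q / 16 % 2) * (P.f 0 ^ (q % 2) * (P.f 1 ^ (q / 2 % 2) * (P.f 2 ^ (q / 4 % 2) * P.f 3 ^ (q / 8 % 2))))

include P in
theorem zpow_mod (n : ℕ) : z ^ (n % 2) = z ^ n :=
  (pow_eq_pow_mod n (by rw [pow_two]; exact P.zz)).symm

theorem qmul_lt (u v : ℕ) : qmul u v < 32 := Nat.mod_lt _ (by norm_num)

theorem act_lt (s q : ℕ) : act s q < 32 := Nat.mod_lt _ (by norm_num)

theorem rules :
    (∀ y, z * (z * y) = y) ∧ (∀ i y, P.f i * (z * y) = z * (P.f i * y)) ∧ (∀ i y, P.f i * (P.f i * y) = y) ∧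
    (∀ i j, i < j → ∀ y, P.f j * (P.f i * y) = z * (P.f i * (P.f j * y))) := by
  refine ⟨fun y => by rw [← mul_assoc, P.zz, one_mul],
    fun i y => by rw [← mul_assoc, ← P.zf, mul_assoc],
    fun i y => by rw [← mul_assoc, P.sq, one_mul],
    fun i j h y => by rw [← mul_assoc, P.swap i j h, mul_assoc, mul_assoc]⟩

set_option linter.unusedSimpArgs false in
theorem ph_gen (v : ℕ) (hv : v < 32) :
    P.ph (qmul 16 v) = P.ph 16 * P.ph v ∧ P.ph (qmul 1 v) = P.ph 1 * P.ph v ∧
    P.ph (qmul 2 v) = P.ph 2 * P.ph v ∧ P.ph (qmul 4 v) = P.ph 4 * P.ph v ∧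
    P.ph (qmul 8 v) = P.ph 8 * P.ph v := by
  obtain ⟨hzz, hfz, hff, hsw⟩ := P.rules
  have ez := P.zz
  have fz : ∀ i, P.f i * z = z * P.f i := fun i => (P.zf i).symm
  have sq := P.sq
  have r10 := hsw 0 1 (by decide); have r20 := hsw 0 2 (by decide); have r30 := hsw 0 3 (by decide)
  have r21 := hsw 1 2 (by decide); have r31 := hsw 1 3 (by decide); have r32 := hsw 2 3 (by decide)
  have s10 := P.swap 0 1 (by decide); have s20 := P.swap 0 2 (by decide); have s30 := P.swap 0 3 (by decide)
  have s21 := P.swap 1 2 (by decide); have s31 := P.swap 1 3 (by decide); have s32 := P.swap 2 3 (by decide)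
  interval_cases v <;>
  simp [ph, qmul, tget, mul_assoc, hzz, hfz, hff, ez, fz, sq, r10, r20, r30, r21, r31, r32,
    s10, s20, s30, s21, s31, s32]

theorem qmul_facts : ∀ u < 32, qmul 0 u = u ∧
    qmul (u / 16 % 2 * 16) (qmul (u % 2) (qmul (u / 2 % 2 * 2) (qmul (u / 4 % 2 * 4) (u / 8 % 2 * 8)))) = u := by
  decide +kernel

theorem qmul_assoc : ∀ u < 32, ∀ v < 32, ∀ w < 32, qmul (qmul u v) w = qmul u (qmul v w) := by
  decide +kernel

theorem ph_zero : P.ph 0 = 1 := by simp [ph]

theorem ph_mul {u v : ℕ} (hu : u < 32) (hv : v < 32) : P.ph (qmul u v) = P.ph u * P.ph v := by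
  let good (w : ℕ) : Prop := w < 32 ∧ ∀ v < 32, P.ph (qmul w v) = P.ph w * P.ph v
  have hgen : ∀ n : ℕ, ∀ m ∈ [16, 1, 2, 4, 8], good (n % 2 * m) := by
    intro n m hm
    rcases Nat.mod_two_eq_zero_or_one n with e | e <;> rw [e]
    · rw [Nat.zero_mul]
      exact ⟨by norm_num, fun v hv => by rw [(qmul_facts v hv).1, P.ph_zero, one_mul]⟩
    · rw [Nat.one_mul]
      simp only [List.mem_cons, List.not_mem_nil, or_false] at hm
      refine ⟨by omega, fun v hv => ?_⟩
      obtain ⟨h16, h1, h2, h4, h8⟩ := P.ph_gen v hv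
      rcases hm with rfl | rfl | rfl | rfl | rfl <;> assumption
  have hmul : ∀ a b, good a → good b → good (qmul a b) := by
    intro a b ha hb
    refine ⟨qmul_lt a b, fun v hv => ?_⟩
    rw [qmul_assoc a ha.1 b hb.1 v hv, ha.2 _ (qmul_lt b v), hb.2 v hv, ha.2 b hb.1, mul_assoc]
  have hu' : good u := by
    rw [← (qmul_facts u hu).2]
    refine hmul _ _ (hgen _ _ (by simp)) (hmul _ _ ?_ (hmul _ _ (hgen _ _ (by simp))
      (hmul _ _ (hgen _ _ (by simp)) (hgen _ _ (by simp)))))
    simpa using hgen u 1 (by simp)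
  exact hu'.2 v hv

theorem ph_pow_z (n : ℕ) : P.ph (16 * (n % 2)) = z ^ n := by
  rw [← P.zpow_mod n]
  rcases Nat.mod_two_eq_zero_or_one n with e | e <;> rw [e] <;> simp [ph]

theorem z_ph (q : ℕ) : Commute z (P.ph q) := by
  have : ∀ i, Commute z (P.f i) := P.zf
  exact ((Commute.refl z).pow_right _).mul_right (((this 0).pow_right _).mul_right
    (((this 1).pow_right _).mul_right (((this 2).pow_right _).mul_right ((this 3).pow_right _))))

end Four

open Four (qmul_lt act_lt qmul_facts qmul_assoc)

namespace Gens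

variable {k : ℕ} {z : G} (P : Gens k z)

/-- One of the two generators. -/
def gen (g : Bool) : G := if g then P.a else P.b

/-- The element over a permutation. -/
def sec (s : ℕ) : G := ((words.getD s []).map P.gen).prod

/-- The element of a code. -/
def el (x : ℕ) : G := P.ph (x % 32) * P.sec (x / 32 % 24)

theorem gen_z (g : Bool) : Commute z (P.gen g) := by
  cases g
  · exact P.zb
  · exact P.za

theorem gen_move (g : Bool) (n : ℕ) (y : G) : P.gen g * (z ^ n * y) = z ^ n * (P.gen g * y) :=
  (((P.gen_z g).pow_left n).symm.left_comm y)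

theorem mul_lt' : ∀ s < 24, ∀ t < 24, pm s t < 24 := by decide +kernel

set_option linter.unusedSimpArgs false in
theorem gen_ph (g : Bool) {q : ℕ} (hq : q < 32) :
    P.gen g * P.ph q = P.ph (act (if g then 1 else 2) q) * P.gen g := by
  obtain ⟨hzz, hfz, hff, hsw⟩ := P.rules
  have ez := P.zz
  have fz : ∀ i, P.f i * z = z * P.f i := fun i => (P.zf i).symm
  have sq := P.sq
  have r10 := hsw 0 1 (by decide); have r20 := hsw 0 2 (by decide); have r30 := hsw 0 3 (by decide)
  have r21 := hsw 1 2 (by decide); have r31 := hsw 1 3 (by decide); have r32 := hsw 2 3 (by decide)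
  cases g
  · have gz : P.b * z = z * P.b := P.zb.symm
    have gz' : ∀ y, P.b * (z * y) = z * (P.b * y) := fun y => by rw [← mul_assoc, gz, mul_assoc]
    have g' : ∀ i y, P.b * (P.f i * y) = P.f (![2, 0, 1, 3] i) * (P.b * y) := fun i y => by
      rw [← mul_assoc, P.bf i, mul_assoc]
    interval_cases q <;>
    simp [gen, Four.ph, act, tget, mul_assoc, hzz, hfz, hff, ez, fz, sq, r10, r20, r30, r21, r31, r32, gz, gz',
      P.bf, g']
  · have gz : P.a * z = z * P.a := P.za.symm
    have gz' : ∀ y, P.a * (z * y) = z * (P.a * y) := fun y => by rw [← mul_assoc, gz, mul_assoc]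
    have g' : ∀ i y, P.a * (P.f i * y) = P.f (![1, 2, 3, 0] i) * (P.a * y) := fun i y => by
      rw [← mul_assoc, P.af i, mul_assoc]
    interval_cases q <;>
    simp [gen, Four.ph, act, tget, mul_assoc, hzz, hfz, hff, ez, fz, sq, r10, r20, r30, r21, r31, r32, gz, gz',
      P.af, g']

/-- The equation of an edge. -/
def Edge (g : Bool) (s : ℕ) : Prop := P.gen g * P.sec s = z ^ edge k g s * P.sec (step g s)

theorem sec_step {g : Bool} {s t : ℕ} (h : words.getD t [] = g :: words.getD s []) :
    P.sec t = P.gen g * P.sec s := by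
  unfold sec
  rw [h, List.map_cons, List.prod_cons]

theorem edge_tree {g : Bool} {s : ℕ} (_hs : s < 24) (h : words.getD (step g s) [] = g :: words.getD s [])
    (he : ∀ k < 4, edge k g s = 0) : Edge P g s := by
  rw [Edge, he k P.k_lt, pow_zero, one_mul, P.sec_step h]

theorem cyc {g1 g2 g3 g4 : Bool} {x x1 x2 x3 R : ℕ}
    (rel : P.gen g4 * (P.gen g3 * (P.gen g2 * P.gen g1)) = z ^ R)
    (h1 : Edge P g1 x) (h2 : Edge P g2 x1) (h3 : Edge P g3 x2)
    (hs : step g1 x = x1 ∧ step g2 x1 = x2 ∧ step g3 x2 = x3 ∧ step g4 x3 = x)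
    (hp : (edge k g4 x3 + (edge k g1 x + edge k g2 x1 + edge k g3 x2)) % 2 = R % 2) : Edge P g4 x3 := by
  obtain ⟨e1, e2, e3, e4⟩ := hs
  unfold Edge at h1 h2 h3 ⊢
  rw [e1] at h1
  rw [e2] at h2
  rw [e3] at h3
  rw [e4]
  have h : P.gen g4 * (P.gen g3 * (P.gen g2 * (P.gen g1 * P.sec x))) = z ^ R * P.sec x := by
    rw [← rel]; simp only [mul_assoc]
  simp only [h1, h2, h3, P.gen_move] at h
  rw [← mul_assoc, ← mul_assoc, ← pow_add, ← pow_add] at h
  refine mul_left_cancel (a := z ^ (edge k g1 x + edge k g2 x1 + edge k g3 x2)) ?_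
  rw [h, ← mul_assoc, ← pow_add, ← P.zpow_mod R, ← hp, P.zpow_mod, add_comm]

theorem cyc_aaaa {x x1 x2 x3 : ℕ} (_hx : x < 24) (h1 : Edge P true x) (h2 : Edge P true x1) (h3 : Edge P true x2)
    (hs : (step true x = x1 ∧ step true x1 = x2 ∧ step true x2 = x3 ∧ step true x3 = x) ∧ ∀ k < 4,
      (edge k true x3 + (edge k true x + edge k true x1 + edge k true x2)) % 2 = k % 2 % 2) : Edge P true x3 :=
  P.cyc (show P.gen true * (P.gen true * (P.gen true * P.gen true)) = z ^ (k % 2) from P.a4) h1 h2 h3 hs.1 (hs.2 k P.k_lt)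

theorem cyc_baba {x x1 x2 x3 : ℕ} (_hx : x < 24) (h1 : Edge P false x) (h2 : Edge P true x1) (h3 : Edge P false x2)
    (hs : (step false x = x1 ∧ step true x1 = x2 ∧ step false x2 = x3 ∧ step true x3 = x) ∧ ∀ k < 4,
      (edge k true x3 + (edge k false x + edge k true x1 + edge k false x2)) % 2 = k / 2 % 2) : Edge P true x3 :=
  P.cyc (show P.gen true * (P.gen false * (P.gen true * P.gen false)) = z ^ (k / 2) from P.ab2) h1 h2 h3 hs.1 (hs.2 k P.k_lt)

theorem cyc_abab {x x1 x2 x3 : ℕ} (_hx : x < 24) (h1 : Edge P true x) (h2 : Edge P false x1) (h3 : Edge P true x2)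
    (hs : (step true x = x1 ∧ step false x1 = x2 ∧ step true x2 = x3 ∧ step false x3 = x) ∧ ∀ k < 4,
      (edge k false x3 + (edge k true x + edge k false x1 + edge k true x2)) % 2 = k / 2 % 2) : Edge P false x3 := by
  refine P.cyc ?_ h1 h2 h3 hs.1 (hs.2 k P.k_lt)
  show P.b * (P.a * (P.b * P.a)) = z ^ (k / 2)
  calc P.b * (P.a * (P.b * P.a)) = P.a⁻¹ * (P.a * (P.b * (P.a * P.b))) * P.a := by group
    _ = _ := by
      rw [P.ab2, mul_assoc, ((show Commute z P.a from P.za).pow_left (k / 2)).eq, inv_mul_cancel_left]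

theorem cyc_bbb {x x1 x2 : ℕ} (_hx : x < 24) (h1 : Edge P false x) (h2 : Edge P false x1)
    (hs : (step false x = x1 ∧ step false x1 = x2 ∧ step false x2 = x) ∧ ∀ k < 4,
      (edge k false x2 + (edge k false x + edge k false x1)) % 2 = 0) : Edge P false x2 := by
  obtain ⟨⟨e1, e2, e3⟩, hp⟩ := hs
  unfold Edge at h1 h2 ⊢
  rw [e1] at h1
  rw [e2] at h2
  rw [e3]
  have hb : P.gen false * (P.gen false * P.gen false) = 1 := P.b3
  have h : P.gen false * (P.gen false * (P.gen false * P.sec x)) = P.sec x := by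
    conv_rhs => rw [← one_mul (P.sec x), ← hb, mul_assoc, mul_assoc]
  simp only [h1, h2, P.gen_move] at h
  rw [← mul_assoc, ← pow_add] at h
  refine mul_left_cancel (a := z ^ (edge k false x + edge k false x1)) ?_
  rw [h, ← mul_assoc, ← pow_add, ← P.zpow_mod, add_comm, hp k P.k_lt, pow_zero, one_mul]

theorem edge_all : ∀ g, ∀ s < 24, Edge P g s := by
  have ha0 : Edge P true 0 := P.edge_tree (by decide) rfl (by decide +kernel)
  have hb0 : Edge P false 0 := P.edge_tree (by decide) rfl (by decide +kernel)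
  have ha1 : Edge P true 1 := P.edge_tree (by decide) rfl (by decide +kernel)
  have hb1 : Edge P false 1 := P.edge_tree (by decide) rfl (by decide +kernel)
  have ha2 : Edge P true 2 := P.edge_tree (by decide) rfl (by decide +kernel)
  have hb2 : Edge P false 2 := P.edge_tree (by decide) rfl (by decide +kernel)
  have ha3 : Edge P true 3 := P.edge_tree (by decide) rfl (by decide +kernel)
  have hb3 : Edge P false 3 := P.edge_tree (by decide) rfl (by decide +kernel)
  have hb4 : Edge P false 4 := P.edge_tree (by decide) rfl (by decide +kernel)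
  have ha5 : Edge P true 5 := P.edge_tree (by decide) rfl (by decide +kernel)
  have ha6 : Edge P true 6 := P.edge_tree (by decide) rfl (by decide +kernel)
  have hb7 : Edge P false 7 := P.edge_tree (by decide) rfl (by decide +kernel)
  have hb8 : Edge P false 8 := P.edge_tree (by decide) rfl (by decide +kernel)
  have ha9 : Edge P true 9 := P.edge_tree (by decide) rfl (by decide +kernel)
  have ha10 : Edge P true 10 := P.edge_tree (by decide) rfl (by decide +kernel)
  have hb10 : Edge P false 10 := P.edge_tree (by decide) rfl (by decide +kernel)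
  have ha11 : Edge P true 11 := P.edge_tree (by decide) rfl (by decide +kernel)
  have ha13 : Edge P true 13 := P.edge_tree (by decide) rfl (by decide +kernel)
  have ha14 : Edge P true 14 := P.edge_tree (by decide) rfl (by decide +kernel)
  have hb15 : Edge P false 15 := P.edge_tree (by decide) rfl (by decide +kernel)
  have hb16 : Edge P false 16 := P.edge_tree (by decide) rfl (by decide +kernel)
  have hb17 : Edge P false 17 := P.edge_tree (by decide) rfl (by decide +kernel)
  have hb19 : Edge P false 19 := P.edge_tree (by decide) rfl (by decide +kernel)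
  have ha7 : Edge P true 7 :=
    P.cyc_aaaa (x := 0) (by decide) ha0 ha1 ha3 (by decide +kernel)
  have ha15 : Edge P true 15 :=
    P.cyc_aaaa (x := 2) (by decide) ha2 ha5 ha10 (by decide +kernel)
  have hb6 : Edge P false 6 :=
    P.cyc_bbb (x := 0) (by decide) hb0 hb2 (by decide +kernel)
  have hb9 : Edge P false 9 :=
    P.cyc_bbb (x := 1) (by decide) hb1 hb4 (by decide +kernel)
  have hb13 : Edge P false 13 :=
    P.cyc_bbb (x := 3) (by decide) hb3 hb8 (by decide +kernel)
  have hb21 : Edge P false 21 :=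
    P.cyc_bbb (x := 10) (by decide) hb10 hb16 (by decide +kernel)
  have hb5 : Edge P false 5 :=
    P.cyc_abab (x := 7) (by decide) ha7 hb0 ha2 (by decide +kernel)
  have hb11 : Edge P false 11 :=
    P.cyc_abab (x := 15) (by decide) ha15 hb2 ha6 (by decide +kernel)
  have ha4 : Edge P true 4 :=
    P.cyc_baba (x := 6) (by decide) hb6 ha0 hb1 (by decide +kernel)
  have ha8 : Edge P true 8 :=
    P.cyc_baba (x := 9) (by decide) hb9 ha1 hb3 (by decide +kernel)
  have ha12 : Edge P true 12 :=
    P.cyc_baba (x := 13) (by decide) hb13 ha3 hb7 (by decide +kernel)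
  have ha20 : Edge P true 20 :=
    P.cyc_baba (x := 21) (by decide) hb21 ha10 hb15 (by decide +kernel)
  have ha17 : Edge P true 17 :=
    P.cyc_aaaa (x := 4) (by decide) ha4 ha6 ha11 (by decide +kernel)
  have ha19 : Edge P true 19 :=
    P.cyc_aaaa (x := 8) (by decide) ha8 ha9 ha14 (by decide +kernel)
  have hb12 : Edge P false 12 :=
    P.cyc_bbb (x := 5) (by decide) hb5 hb7 (by decide +kernel)
  have hb20 : Edge P false 20 :=
    P.cyc_bbb (x := 11) (by decide) hb11 hb15 (by decide +kernel)
  have hb14 : Edge P false 14 :=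
    P.cyc_abab (x := 17) (by decide) ha17 hb4 ha9 (by decide +kernel)
  have hb18 : Edge P false 18 :=
    P.cyc_abab (x := 19) (by decide) ha19 hb8 ha13 (by decide +kernel)
  have ha16 : Edge P true 16 :=
    P.cyc_baba (x := 12) (by decide) hb12 ha5 hb10 (by decide +kernel)
  have ha22 : Edge P true 22 :=
    P.cyc_baba (x := 20) (by decide) hb20 ha11 hb17 (by decide +kernel)
  have ha18 : Edge P true 18 :=
    P.cyc_aaaa (x := 16) (by decide) ha16 ha12 ha13 (by decide +kernel)
  have hb22 : Edge P false 22 :=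
    P.cyc_bbb (x := 14) (by decide) hb14 hb17 (by decide +kernel)
  have hb23 : Edge P false 23 :=
    P.cyc_bbb (x := 18) (by decide) hb18 hb19 (by decide +kernel)
  have ha23 : Edge P true 23 :=
    P.cyc_baba (x := 22) (by decide) hb22 ha14 hb19 (by decide +kernel)
  have ha21 : Edge P true 21 :=
    P.cyc_baba (x := 23) (by decide) hb23 ha18 hb16 (by decide +kernel)
  intro g s hs
  cases g <;> interval_cases s
  · exact hb0
  · exact hb1
  · exact hb2
  · exact hb3
  · exact hb4
  · exact hb5
  · exact hb6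
  · exact hb7
  · exact hb8
  · exact hb9
  · exact hb10
  · exact hb11
  · exact hb12
  · exact hb13
  · exact hb14
  · exact hb15
  · exact hb16
  · exact hb17
  · exact hb18
  · exact hb19
  · exact hb20
  · exact hb21
  · exact hb22
  · exact hb23
  · exact ha0
  · exact ha1
  · exact ha2
  · exact ha3
  · exact ha4
  · exact ha5
  · exact ha6
  · exact ha7
  · exact ha8
  · exact ha9
  · exact ha10
  · exact ha11
  · exact ha12
  · exact ha13
  · exact ha14
  · exact ha15
  · exact ha16
  · exact ha17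
  · exact ha18
  · exact ha19
  · exact ha20
  · exact ha21
  · exact ha22
  · exact ha23

/-- Left multiplication by the element over a permutation. -/
def Good (s : ℕ) : Prop :=
  (∀ t < 24, P.sec s * P.sec t = z ^ cc k s t * P.sec (pm s t)) ∧
    ∀ q < 32, P.sec s * P.ph q = P.ph (act s q) * P.sec s

theorem good_step {g : Bool} {s₀ s : ℕ} (hE : ∀ g, ∀ s < 24, Edge P g s) (h : Good P s₀) (hs₀ : s₀ < 24)
    (_hs : s < 24) (hw : words.getD s [] = g :: words.getD s₀ [])
    (hf : (∀ k < 4, ∀ t < 24, cc k s t % 2 = (cc k s₀ t + edge k g (pm s₀ t)) % 2 ∧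
        step g (pm s₀ t) = pm s t) ∧ ∀ q < 32, act s q = act (if g then 1 else 2) (act s₀ q)) :
    Good P s := by
  refine ⟨fun t ht => ?_, fun q hq => ?_⟩
  · obtain ⟨e1, e2⟩ := hf.1 k P.k_lt t ht
    rw [P.sec_step hw, mul_assoc, h.1 t ht, P.gen_move, hE g _ (mul_lt' _ hs₀ _ ht), e2, ← mul_assoc, ← pow_add,
      ← P.zpow_mod, ← e1, P.zpow_mod]
  · rw [P.sec_step hw, mul_assoc, h.2 q hq, ← mul_assoc, P.gen_ph g (act_lt _ _), ← hf.2 q hq, mul_assoc]

theorem good_all : ∀ s < 24, Good P s := by
  have hE := P.edge_all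
  have h0 : Good P 0 := by
    have e : P.sec 0 = 1 := by simp [sec, words]
    have hc : (∀ k < 4, ∀ t < 24, cc k 0 t = 0 ∧ pm 0 t = t) ∧ ∀ q < 32, act 0 q = q := by decide +kernel
    refine ⟨fun t ht => ?_, fun q hq => by rw [e, one_mul, mul_one, hc.2 q hq]⟩
    obtain ⟨e1, e2⟩ := hc.1 k P.k_lt t ht
    rw [e, one_mul, e1, e2, pow_zero, one_mul]
  have h1 : Good P 1 := P.good_step (g := true) hE h0 (by decide) (by decide) rfl (by decide +kernel)
  have h2 : Good P 2 := P.good_step (g := false) hE h0 (by decide) (by decide) rfl (by decide +kernel)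
  have h3 : Good P 3 := P.good_step (g := true) hE h1 (by decide) (by decide) rfl (by decide +kernel)
  have h4 : Good P 4 := P.good_step (g := false) hE h1 (by decide) (by decide) rfl (by decide +kernel)
  have h5 : Good P 5 := P.good_step (g := true) hE h2 (by decide) (by decide) rfl (by decide +kernel)
  have h6 : Good P 6 := P.good_step (g := false) hE h2 (by decide) (by decide) rfl (by decide +kernel)
  have h7 : Good P 7 := P.good_step (g := true) hE h3 (by decide) (by decide) rfl (by decide +kernel)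
  have h8 : Good P 8 := P.good_step (g := false) hE h3 (by decide) (by decide) rfl (by decide +kernel)
  have h9 : Good P 9 := P.good_step (g := false) hE h4 (by decide) (by decide) rfl (by decide +kernel)
  have h10 : Good P 10 := P.good_step (g := true) hE h5 (by decide) (by decide) rfl (by decide +kernel)
  have h11 : Good P 11 := P.good_step (g := true) hE h6 (by decide) (by decide) rfl (by decide +kernel)
  have h12 : Good P 12 := P.good_step (g := false) hE h7 (by decide) (by decide) rfl (by decide +kernel)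
  have h13 : Good P 13 := P.good_step (g := false) hE h8 (by decide) (by decide) rfl (by decide +kernel)
  have h14 : Good P 14 := P.good_step (g := true) hE h9 (by decide) (by decide) rfl (by decide +kernel)
  have h15 : Good P 15 := P.good_step (g := true) hE h10 (by decide) (by decide) rfl (by decide +kernel)
  have h16 : Good P 16 := P.good_step (g := false) hE h10 (by decide) (by decide) rfl (by decide +kernel)
  have h17 : Good P 17 := P.good_step (g := true) hE h11 (by decide) (by decide) rfl (by decide +kernel)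
  have h18 : Good P 18 := P.good_step (g := true) hE h13 (by decide) (by decide) rfl (by decide +kernel)
  have h19 : Good P 19 := P.good_step (g := true) hE h14 (by decide) (by decide) rfl (by decide +kernel)
  have h20 : Good P 20 := P.good_step (g := false) hE h15 (by decide) (by decide) rfl (by decide +kernel)
  have h21 : Good P 21 := P.good_step (g := false) hE h16 (by decide) (by decide) rfl (by decide +kernel)
  have h22 : Good P 22 := P.good_step (g := false) hE h17 (by decide) (by decide) rfl (by decide +kernel)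
  have h23 : Good P 23 := P.good_step (g := false) hE h19 (by decide) (by decide) rfl (by decide +kernel)
  intro s hs
  interval_cases s <;> assumption

theorem el_mul (x y : ℕ) : P.el (mul k x y) = P.el x * P.el y := by
  have hs : x / 32 % 24 < 24 := Nat.mod_lt _ (by norm_num)
  have ht : y / 32 % 24 < 24 := Nat.mod_lt _ (by norm_num)
  have hq : x % 32 < 32 := Nat.mod_lt _ (by norm_num)
  have hr : y % 32 < 32 := Nat.mod_lt _ (by norm_num)
  obtain ⟨h1, h2⟩ := P.good_all _ hs
  have hp := mul_lt' _ hs _ ht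
  have hc : cc k (x / 32 % 24) (y / 32 % 24) < 2 := Nat.mod_lt _ (by norm_num)
  have e : mul k x y % 32 = qmul (qmul (x % 32) (act (x / 32 % 24) (y % 32)))
      (16 * (cc k (x / 32 % 24) (y / 32 % 24) % 2)) ∧ mul k x y / 32 % 24 = pm (x / 32 % 24) (y / 32 % 24) := by
    rw [Nat.mod_eq_of_lt hc]
    have := qmul_lt (qmul (x % 32) (act (x / 32 % 24) (y % 32))) (16 * cc k (x / 32 % 24) (y / 32 % 24))
    simp only [mul]
    omega
  unfold el
  rw [e.1, e.2, P.ph_mul (qmul_lt _ _) (by omega), P.ph_mul hq (act_lt _ _), P.ph_pow_z]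
  calc P.ph (x % 32) * P.ph (act (x / 32 % 24) (y % 32)) * z ^ cc k (x / 32 % 24) (y / 32 % 24) *
        P.sec (pm (x / 32 % 24) (y / 32 % 24))
      = P.ph (x % 32) * P.ph (act (x / 32 % 24) (y % 32)) * (P.sec (x / 32 % 24) * P.sec (y / 32 % 24)) := by
        rw [h1 _ ht, mul_assoc]
    _ = _ := by
        rw [← mul_assoc, mul_assoc (P.ph (x % 32)), ← h2 _ hr]
        simp only [mul_assoc]

end Gens

end Cfsg.Agent.AutL34Type
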