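import Cfsg.Agent.Lib.AutL34Type.Pres
import Cfsg.Agent.Lib.AutL34Type.Local
import Cfsg.Agent.InvChar.JankoTwoCount
import Cfsg.Prelude.Def_Transfer

/-!
An involution centraliser with a normal `2^{1+4}` of minus type, self-centralising, and quotient the
symmetric group of degree four is one of the four models.
-/

set_option autoImplicit false
set_option maxRecDepth 100000
set_option linter.unusedSectionVars false
set_option linter.style.haveILetI false

namespace Cfsg.Agent.AutL34Type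

open Subgroup

universe u

theorem perm_norm : ∀ π : Equiv.Perm (Fin 5), π * π * (π * π) = 1 → π * π ≠ 1 →
    ∃ c : Equiv.Perm (Fin 5), ∀ i, (c * π * c⁻¹) i = ![1, 2, 3, 0, 4] i := by decide +kernel

theorem perm_norm_three : ∀ σ : Equiv.Perm (Fin 5), ∀ a : Equiv.Perm (Fin 5), (∀ i, a i = ![1, 2, 3, 0, 4] i) →
    σ * (σ * σ) = 1 → σ ≠ 1 → a * σ * (a * σ) = 1 →
    ∃ j : Fin 4, ∀ i, (a ^ (j : ℕ) * σ * (a ^ (j : ℕ))⁻¹) i = ![2, 0, 1, 3, 4] i := by decide +kernel

theorem sfour_pair : ∃ a b : Equiv.Perm (Fin 4), a * a * (a * a) = 1 ∧ a * a ≠ 1 ∧ b * (b * b) = 1 ∧ b ≠ 1 ∧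
    a * b * (a * b) = 1 := by decide +kernel

theorem code_kernel : ∀ q < 32, q = 0 ∨ q = 16 ∨ ∃ i : Fin 4,
    qmul q (2 ^ (i : ℕ)) = qmul 16 (qmul (2 ^ (i : ℕ)) q) := by decide +kernel

theorem code_left_inv : ∀ q < 32, ∃ r < 32, qmul r q = 0 ∧ ∀ v < 32, qmul r v = 0 → v = q := by decide +kernel

theorem code_commute : qmul 16 16 = 0 ∧ ∀ q < 32, qmul 16 q = qmul q 16 := by decide +kernel

theorem code_invol : ∀ q < 32, qmul q q = 0 → q = 0 ∨ q = 16 ∨
    ∃ i : Fin 5, q = ![1, 2, 4, 8, 15] i ∨ q = qmul 16 (![1, 2, 4, 8, 15] i) := by decide +kernel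

theorem code_five : ∀ i : Fin 5, qmul (![1, 2, 4, 8, 15] i) (![1, 2, 4, 8, 15] i) = 0 ∧
    (![1, 2, 4, 8, 15] i : ℕ) % 16 = (![1, 2, 4, 8, 15] i : ℕ) ∧ (![1, 2, 4, 8, 15] i : ℕ) < 32 ∧
    (![1, 2, 4, 8, 15] i : ℕ) ≠ 0 ∧ qmul 16 (![1, 2, 4, 8, 15] i) = (![1, 2, 4, 8, 15] i : ℕ) + 16 := by
  decide +kernel

theorem five_inj : ∀ i j : Fin 5, (![1, 2, 4, 8, 15] i : ℕ) = ![1, 2, 4, 8, 15] j → i = j := by decide +kernel

theorem code_flip : ∀ t : Fin 4 → Bool, ∃ q < 32, ∀ i : Fin 4,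
    qmul q (2 ^ (i : ℕ)) = qmul (qmul (if t i then 16 else 0) (2 ^ (i : ℕ))) q := by decide +kernel

theorem sec_outer : ∀ s < 24, s = 0 ∨ ∀ q < 32, ∃ v < 32, qmul q v ≠ qmul (act s v) q := by decide +kernel

theorem perm_inverse : ∀ s < 24, ∃ t < 24, pm s t = 0 ∧ ∀ s' < 24, pm s' t = 0 → s' = s := by decide +kernel

namespace Four

variable {G : Type u} [Group G] {z : G} (P : Four z)

theorem ph_basic : P.ph 16 = z ∧ P.ph 1 = P.f 0 ∧ P.ph 2 = P.f 1 ∧ P.ph 4 = P.f 2 ∧ P.ph 8 = P.f 3 := by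
  simp [ph]

theorem ph_two_pow (i : Fin 4) : P.ph (2 ^ (i : ℕ)) = P.f i := by
  fin_cases i <;> simp [ph]

theorem ph_inj (hz : z ≠ 1) {u v : ℕ} (hu : u < 32) (hv : v < 32) (e : P.ph u = P.ph v) : u = v := by
  obtain ⟨r, hr, hru, huniq⟩ := code_left_inv u hu
  refine (huniq v hv ?_).symm
  have h1 : P.ph (qmul r v) = 1 := by rw [P.ph_mul hr hv, ← e, ← P.ph_mul hr hu, hru, P.ph_zero]
  rcases code_kernel _ (qmul_lt r v) with h | h | ⟨i, hi⟩
  · exact h
  · rw [h, P.ph_basic.1] at h1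
    exact absurd h1 hz
  · have h2 : 2 ^ (i : ℕ) < 32 := Nat.pow_lt_pow_right (by norm_num) (by omega : (i : ℕ) < 5)
    have := congrArg P.ph hi
    rw [P.ph_mul (qmul_lt _ _) h2, h1, one_mul, P.ph_mul (by norm_num) (qmul_lt _ _), P.ph_mul h2 (qmul_lt _ _),
      h1, mul_one, P.ph_basic.1] at this
    exact absurd (mul_eq_right.1 this.symm) hz

theorem commute_ph {g : G} (hz : Commute g z) (h : ∀ i, Commute g (P.f i)) (q : ℕ) : Commute g (P.ph q) :=
  (hz.pow_right _).mul_right (((h 0).pow_right _).mul_right (((h 1).pow_right _).mul_right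
    (((h 2).pow_right _).mul_right ((h 3).pow_right _))))

end Four

namespace Gens

variable {G : Type u} [Group G] {k : ℕ} {z : G} (P : Gens k z)

theorem sec_zero : P.sec 0 = 1 := by simp [sec, words]

theorem el_eq (hz : z ≠ 1) (x y : ℕ) (hx : x < 768) (hy : y < 768) (e : P.el x = P.el y) : x = y := by
  have hs : x / 32 % 24 < 24 := Nat.mod_lt _ (by norm_num)
  have hs' : y / 32 % 24 < 24 := Nat.mod_lt _ (by norm_num)
  have hq : x % 32 < 32 := Nat.mod_lt _ (by norm_num)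
  have hq' : y % 32 < 32 := Nat.mod_lt _ (by norm_num)
  obtain ⟨r, hr, hrq, -⟩ := code_left_inv _ hq'
  obtain ⟨t, ht, hst, huniq⟩ := perm_inverse _ hs
  have e1 : P.sec (y / 32 % 24) = P.ph (qmul r (x % 32)) * P.sec (x / 32 % 24) := by
    rw [P.ph_mul hr hq, mul_assoc, show P.ph (x % 32) * P.sec (x / 32 % 24) = P.el x from rfl, e,
      show P.el y = P.ph (y % 32) * P.sec (y / 32 % 24) from rfl, ← mul_assoc, ← P.ph_mul hr hq', hrq,
      P.ph_zero, one_mul]
  have e2 : z ^ cc k (y / 32 % 24) t * P.sec (pm (y / 32 % 24) t) =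
      P.ph (qmul r (x % 32)) * z ^ cc k (x / 32 % 24) t := by
    rw [← (P.good_all _ hs').1 t ht, e1, mul_assoc, (P.good_all _ hs).1 t ht, hst, P.sec_zero, mul_one]
  have hlt := Four.qmul_lt (qmul r (x % 32)) (16 * (cc k (x / 32 % 24) t % 2))
  have hlt' : 16 * (cc k (y / 32 % 24) t % 2) < 32 := by omega
  obtain ⟨q, hq1, e3⟩ : ∃ q < 32, P.sec (pm (y / 32 % 24) t) = P.ph q := by
    refine ⟨_, Four.qmul_lt (16 * (cc k (y / 32 % 24) t % 2)) (qmul (qmul r (x % 32)) (16 * (cc k (x / 32 % 24) t % 2))), ?_⟩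
    rw [P.ph_mul hlt' hlt, P.ph_mul (Four.qmul_lt _ _) (by omega), P.ph_pow_z, P.ph_pow_z, ← e2, ← mul_assoc,
      ← pow_add, ← P.zpow_mod, ← two_mul, Nat.mul_mod_right, pow_zero, one_mul]
  have hpm := mul_lt' _ hs' _ ht
  have hsy : y / 32 % 24 = x / 32 % 24 := by
    refine huniq _ hs' ((sec_outer _ hpm).resolve_right fun h => ?_)
    obtain ⟨v, hv, hne⟩ := h q hq1
    refine hne (P.toFour.ph_inj hz (Four.qmul_lt _ _) (Four.qmul_lt _ _) ?_)
    rw [P.ph_mul hq1 hv, P.ph_mul (Four.act_lt _ _) hq1, ← e3]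
    exact (P.good_all _ hpm).2 v hv
  have hxy : x % 32 = y % 32 := by
    refine P.toFour.ph_inj hz hq hq' ?_
    have h := e
    unfold el at h
    rw [hsy] at h
    exact mul_right_cancel h
  omega

end Gens

variable {G : Type u} [Group G] [Finite G]

theorem elementary_eight {C : Type*} [Group C] [Finite C] (z a b : C) (hC : IsPGroup 2 C)
    (hz : z * z = 1) (ha : a * a = 1) (hb : b * b = 1) (hza : z * a = a * z) (hzb : z * b = b * z)
    (hab : a * b = b * a) (hne : [1, z, a, b, a * b].Nodup) :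
    ∃ A : Subgroup C, Cfsg.IsElementaryAbelian 2 A ∧ Nat.card A = 8 := by
  classical
  haveI : Fact (Nat.Prime 2) := ⟨Nat.prime_two⟩
  set S : Set C := {z, a, b} with hS
  set K := closure S with hK
  haveI hcomm : IsMulCommutative K := isMulCommutative_closure fun x hx y hy => by
    rcases hx with rfl | rfl | rfl <;> rcases hy with rfl | rfl | rfl <;>
      first | rfl | assumption | exact hza.symm | exact hzb.symm | exact hab.symm
  have hsq : ∀ x ∈ K, x * x = 1 := by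
    intro x hx
    induction hx using closure_induction with
    | mem x hx => rcases hx with rfl | rfl | rfl <;> assumption
    | one => rw [one_mul]
    | mul x y hx hy ihx ihy =>
      have e : x * y = y * x := congrArg Subtype.val (mul_comm' (⟨x, hx⟩ : K) ⟨y, hy⟩)
      rw [show x * y * (x * y) = x * (y * x) * y by group, ← e, show x * (x * y) * y = x * x * (y * y) by group,
        ihx, ihy, one_mul]
    | inv x _ ih => rw [← mul_inv_rev, ih, inv_one]
  obtain ⟨n, hn⟩ := IsPGroup.iff_card.1 (hC.to_subgroup K)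
  have h5 : 5 ≤ Nat.card K := by
    have hmem : ∀ x ∈ [1, z, a, b, a * b], x ∈ K := by
      intro x hx
      simp only [List.mem_cons, List.not_mem_nil, or_false] at hx
      rcases hx with rfl | rfl | rfl | rfl | rfl
      · exact one_mem K
      · exact subset_closure (Or.inl rfl)
      · exact subset_closure (Or.inr (Or.inl rfl))
      · exact subset_closure (Or.inr (Or.inr rfl))
      · exact mul_mem (subset_closure (Or.inr (Or.inl rfl))) (subset_closure (Or.inr (Or.inr rfl)))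
    have := Nat.card_le_card_of_injective
      (fun i : Fin 5 => (⟨[1, z, a, b, a * b][(i : ℕ)], hmem _ (List.getElem_mem _)⟩ : K))
      (fun i j h => Fin.ext ((hne.getElem_inj_iff).1 (congrArg Subtype.val h)))
    rwa [Nat.card_fin] at this
  have h8 : 2 ^ 3 ∣ Nat.card K := by
    rw [hn] at h5 ⊢
    refine Nat.pow_dvd_pow 2 ?_
    by_contra hlt
    have : 2 ^ n ≤ 2 ^ 2 := Nat.pow_le_pow_right (by norm_num) (by omega)
    omega
  obtain ⟨A, hA⟩ := Sylow.exists_subgroup_card_pow_prime 2 h8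
  refine ⟨A.map K.subtype, ⟨⟨⟨?_⟩⟩, ?_⟩, ?_⟩
  · rintro ⟨x, hx⟩ ⟨y, hy⟩
    have e := congrArg Subtype.val
      (mul_comm' (⟨x, map_subtype_le A hx⟩ : K) ⟨y, map_subtype_le A hy⟩)
    exact Subtype.ext e
  · intro x hx
    rw [pow_two]
    exact hsq x (map_subtype_le A hx)
  · rw [card_map_of_injective K.subtype_injective, hA]
    norm_num

/-- Generators for a group with a central involution, a normal self-centralising `2^{1+4}` of minus type
and quotient the symmetric group of degree four. -/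
theorem exists_gens {H : Type*} [Group H] [Finite H] (zH : H) (hzc : ∀ h : H, zH * h = h * zH)
    (hzH2 : zH * zH = 1) (hzH1 : zH ≠ 1) (E : Subgroup H) [E.Normal]
    (hE : Cfsg.IsExtraspecial 2 ↥E) (hE32 : Nat.card ↥E = 32)
    (hEminus : ∀ A : Subgroup ↥E, Cfsg.IsElementaryAbelian 2 A → Nat.card ↥A ≠ 8)
    (hCE : centralizer (E : Set H) ≤ E) (e : (H ⧸ E) ≃* Equiv.Perm (Fin 4)) :
    ∃ (k : ℕ) (Q : Gens k zH), Function.Bijective fun x : Fin 768 => Q.el x := by
  classical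
  haveI : Fact (Nat.Prime 2) := ⟨Nat.prime_two⟩
  have hzE : zH ∈ E := hCE (mem_centralizer_iff.2 fun h _ => (hzc h).symm)
  obtain ⟨hall, -, hcomm, -⟩ := InvChar.Extraspecial.facts hE (z := ⟨zH, hzE⟩)
    (mem_center_iff.2 fun q => Subtype.ext (hzc q).symm) fun e0 => hzH1 (congrArg Subtype.val e0)
  set zE : E := ⟨zH, hzE⟩ with hzEdef
  have hzE1 : zE ≠ 1 := fun e0 => hzH1 (congrArg Subtype.val e0)
  have hzEc : ∀ q : E, zE * q = q * zE := fun q => Subtype.ext (hzc q)
  have hzE2 : zE * zE = 1 := Subtype.ext hzH2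
  have hE2 : IsPGroup 2 E := IsPGroup.of_card (n := 5) (by rw [hE32]; norm_num)
  -- involutions outside the centre anticommute
  have hanti : ∀ a b : E, a * a = 1 → b * b = 1 → a ≠ 1 → a ≠ zE → b ≠ 1 → b ≠ zE → b ≠ a → b ≠ zE * a →
      b * a = zE * (a * b) := by
    intro a b ha hb ha1 haz hb1 hbz hba hbza
    refine (hcomm b a).resolve_left fun hab => ?_
    obtain ⟨A, hA, hA8⟩ := elementary_eight zE a b hE2 hzE2 ha hb (hzEc a) (hzEc b) hab.symm (by
      simp only [List.nodup_cons, List.mem_cons, List.not_mem_nil, or_false, not_or, not_false_iff,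
        List.nodup_nil, and_true]
      refine ⟨⟨Ne.symm hzE1, Ne.symm ha1, Ne.symm hb1, fun e0 => hba ?_⟩, ⟨Ne.symm haz, Ne.symm hbz, fun e0 => hbza ?_⟩,
        ⟨Ne.symm hba, fun e0 => hb1 (mul_eq_left.1 e0.symm)⟩, fun e0 => ha1 (mul_eq_right.1 e0.symm)⟩
      · rw [← mul_one a, e0, ← mul_assoc, ha, one_mul]
      · rw [hzEc, e0, ← mul_assoc, ha, one_mul])
    exact hEminus A hA hA8
  -- four of them
  have hpick : ∀ X : List E, X.length ≤ 8 → ∃ x : E, x * x = 1 ∧ x ∉ X := by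
    intro X hX
    haveI := Fintype.ofFinite E
    by_contra hh
    push Not at hh
    have h12 : 12 ≤ Nat.card {x : E // x * x = 1} := by
      rcases InvChar.JankoTwoCount.card_sq_one hE hE32 with h | h <;> omega
    have hsub : (Finset.univ.filter fun x : E => x * x = 1) ⊆ X.toFinset := fun x hx =>
      List.mem_toFinset.2 (hh x (Finset.mem_filter.1 hx).2)
    have h1 := Finset.card_le_card hsub
    have h2 := X.toFinset_card_le
    rw [Nat.card_eq_fintype_card, Fintype.card_subtype] at h12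
    omega
  obtain ⟨a0, h02, n0⟩ := hpick [1, zE] (by simp)
  obtain ⟨a1, h12, n1⟩ := hpick [1, zE, a0, zE * a0] (by simp)
  obtain ⟨a2, h22, n2⟩ := hpick [1, zE, a0, zE * a0, a1, zE * a1] (by simp)
  obtain ⟨a3, h32, n3⟩ := hpick [1, zE, a0, zE * a0, a1, zE * a1, a2, zE * a2] (by simp)
  simp only [List.mem_cons, List.not_mem_nil, or_false, not_or] at n0 n1 n2 n3
  let fE : Fin 4 → E := ![a0, a1, a2, a3]
  have hswap : ∀ i j, i < j → fE j * fE i = zE * (fE i * fE j) := by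
    intro i j hij
    fin_cases i <;> fin_cases j <;> simp at hij <;> apply hanti <;> simp [fE, n0, n1, n2, n3, h02, h12, h22, h32]
  let PE : Four zE :=
    { f := fE
      zz := hzE2
      zf := fun i => hzEc _
      sq := fun i => by fin_cases i <;> simpa [fE]
      swap := hswap }
  let P0 : Four zH :=
    { f := fun i => (fE i : H)
      zz := hzH2
      zf := fun i => hzc _
      sq := fun i => congrArg Subtype.val (PE.sq i)
      swap := fun i j hij => congrArg Subtype.val (hswap i j hij) }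
  have hphE : ∀ q, P0.ph q ∈ E := fun q => by
    have hf : ∀ i, P0.f i ∈ E := fun i => (fE i).2
    exact mul_mem (pow_mem hzE _) (mul_mem (pow_mem (hf 0) _) (mul_mem (pow_mem (hf 1) _)
      (mul_mem (pow_mem (hf 2) _) (pow_mem (hf 3) _))))
  have hsurjE : ∀ x ∈ E, ∃ q < 32, P0.ph q = x := by
    intro x hx
    have hb := (Nat.bijective_iff_injective_and_card (fun q : Fin 32 => (⟨P0.ph q, hphE q⟩ : E))).2
      ⟨fun u v h => Fin.ext (P0.ph_inj hzH1 u.2 v.2 (congrArg Subtype.val h)), by rw [Nat.card_fin, hE32]⟩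
    obtain ⟨q, hq⟩ := hb.2 ⟨x, hx⟩
    exact ⟨q, q.2, congrArg Subtype.val hq⟩
  have hcenter : ∀ h : H, (∀ i, Commute h (P0.f i)) → ∃ n < 2, h = zH ^ n := by
    intro h hh
    have hall' : ∀ x ∈ E, h * x = x * h := by
      intro x hx
      obtain ⟨q, -, rfl⟩ := hsurjE x hx
      exact P0.commute_ph (hzc h).symm hh q
    have hhE : h ∈ E := hCE (mem_centralizer_iff.2 fun x hx => (hall' x hx).symm)
    rcases hall ⟨h, hhE⟩ (mem_center_iff.2 fun q => Subtype.ext (hall' q q.2).symm) with e0 | e0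
    · exact ⟨0, by norm_num, by rw [pow_zero]; exact congrArg Subtype.val e0⟩
    · exact ⟨1, by norm_num, by rw [pow_one]; exact congrArg Subtype.val e0⟩
  -- the five classes
  let uu : Fin 5 → H := fun i => P0.ph (![1, 2, 4, 8, 15] i)
  have huuz : ∀ i, zH * uu i = P0.ph (![1, 2, 4, 8, 15] i + 16) := fun i => by
    calc zH * uu i = P0.ph 16 * P0.ph (![1, 2, 4, 8, 15] i) := by rw [P0.ph_basic.1]
      _ = _ := by rw [← P0.ph_mul (by norm_num) (code_five i).2.2.1, (code_five i).2.2.2.2]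
  have hne : ∀ i j, uu i = uu j ∨ uu i = zH * uu j → i = j := by
    intro i j h
    obtain ⟨-, i1, i2, -, -⟩ := code_five i
    obtain ⟨-, j1, j2, -, -⟩ := code_five j
    rcases h with h | h
    · exact five_inj i j (P0.ph_inj hzH1 i2 j2 h)
    · rw [huuz] at h
      have := P0.ph_inj hzH1 i2 (by omega) h
      omega
  have huuE : ∀ i, uu i ∈ E := fun i => hphE _
  have hhit : ∀ (h : H) (i : Fin 5), ∃ j, h * uu i * h⁻¹ = uu j ∨ h * uu i * h⁻¹ = zH * uu j := by
    intro h i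
    obtain ⟨q, hq, hqe⟩ := hsurjE _ ((inferInstance : E.Normal).conj_mem _ (huuE i) h)
    obtain ⟨i0, i1, i2, i3, i4⟩ := code_five i
    have hu2 : uu i * uu i = 1 := by rw [← P0.ph_mul i2 i2, i0, P0.ph_zero]
    have hq2 : qmul q q = 0 := P0.ph_inj hzH1 (Four.qmul_lt _ _) (by norm_num) (by
      rw [P0.ph_mul hq hq, hqe, P0.ph_zero, show h * uu i * h⁻¹ * (h * uu i * h⁻¹) = h * (uu i * uu i) * h⁻¹ by group,
        hu2, mul_one, mul_inv_cancel])
    rcases code_invol q hq hq2 with rfl | rfl | ⟨j, hj | hj⟩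
    · rw [P0.ph_zero, eq_comm, conj_eq_one_iff] at hqe
      exact absurd (P0.ph_inj hzH1 i2 (by norm_num) (hqe.trans P0.ph_zero.symm)) i3
    · rw [P0.ph_basic.1] at hqe
      have e0 : uu i = zH := by
        rw [show uu i = h⁻¹ * (h * uu i * h⁻¹) * h by group, ← hqe, mul_assoc, hzc h, inv_mul_cancel_left]
      have := P0.ph_inj hzH1 i2 (by norm_num) (e0.trans P0.ph_basic.1.symm)
      omega
    · exact ⟨j, Or.inl (by rw [← hqe, hj])⟩
    · exact ⟨j, Or.inr (by rw [← hqe, hj, P0.ph_mul (by norm_num) (code_five j).2.2.1, P0.ph_basic.1])⟩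
  choose idx hidx using hhit
  have huniq : ∀ {v : H} {i j : Fin 5}, (v = uu i ∨ v = zH * uu i) → (v = uu j ∨ v = zH * uu j) → i = j := by
    intro v i j hi hj
    rcases hi with e1 | e1 <;> rcases hj with e2 | e2 <;> rw [e1] at e2
    · exact hne i j (Or.inl e2)
    · exact hne i j (Or.inr e2)
    · exact (hne j i (Or.inr e2.symm)).symm
    · exact hne i j (Or.inl (mul_left_cancel e2))
  have hconjz : ∀ h v : H, h * (zH * v) * h⁻¹ = zH * (h * v * h⁻¹) := fun h v => by
    rw [← mul_assoc h, ← hzc h]; group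
  have hidx_mul : ∀ (h l : H) (i : Fin 5), idx (h * l) i = idx h (idx l i) := by
    intro h l i
    refine huniq (hidx (h * l) i) ?_
    rw [show h * l * uu i * (h * l)⁻¹ = h * (l * uu i * l⁻¹) * h⁻¹ by group]
    rcases hidx l i with e2 | e2 <;> rcases hidx h (idx l i) with e3 | e3 <;> rw [e2]
    · exact Or.inl e3
    · exact Or.inr e3
    · exact Or.inr (by rw [hconjz, e3])
    · exact Or.inl (by rw [hconjz, e3, ← mul_assoc, hzH2, one_mul])
  have hidx_one : ∀ i, idx 1 i = i := fun i => huniq (hidx 1 i) (Or.inl (by group))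
  let σ : H →* Equiv.Perm (Fin 5) := MonoidHom.mk'
    (fun h => ⟨idx h, idx h⁻¹, fun i => by rw [← hidx_mul, inv_mul_cancel, hidx_one],
      fun i => by rw [← hidx_mul, mul_inv_cancel, hidx_one]⟩)
    fun h l => Equiv.ext fun i => hidx_mul h l i
  have hσ : ∀ h i, σ h i = idx h i := fun h i => rfl
  -- signs
  have hflipE : ∀ t : Fin 4 → Bool, ∃ x ∈ E, ∀ i, x * P0.f i * x⁻¹ = (if t i then zH else 1) * P0.f i := by
    intro t
    obtain ⟨q, hq, hqt⟩ := code_flip t
    refine ⟨P0.ph q, hphE q, fun i => ?_⟩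
    have h2 : 2 ^ (i : ℕ) < 32 := Nat.pow_lt_pow_right (by norm_num) (by omega : (i : ℕ) < 5)
    have := congrArg P0.ph (hqt i)
    rw [P0.ph_mul hq h2, P0.ph_mul (Four.qmul_lt _ _) hq, P0.ph_mul (by split <;> norm_num) h2,
      P0.ph_two_pow] at this
    rw [this, mul_inv_cancel_right]
    split <;> simp [P0.ph_basic.1, P0.ph_zero]
  have huu4 : ∀ i : Fin 4, uu i.castSucc = P0.f i := by
    intro i
    rw [← P0.ph_two_pow i]
    fin_cases i <;> rfl
  have hker : ∀ h, σ h = 1 ↔ h ∈ E := by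
    intro h
    constructor
    · intro h1
      have hs : ∀ i : Fin 4, ∃ t : Bool, h * P0.f i * h⁻¹ = (if t then zH else 1) * P0.f i := by
        intro i
        have := hidx h i.castSucc
        rw [← hσ, h1, Equiv.Perm.one_apply, huu4] at this
        rcases this with e0 | e0
        · exact ⟨false, by simpa using e0⟩
        · exact ⟨true, by simpa using e0⟩
      choose t ht using hs
      obtain ⟨x, hx, hxt⟩ := hflipE t
      obtain ⟨n, -, hn⟩ := hcenter (x⁻¹ * h) fun i => by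
        show x⁻¹ * h * P0.f i = P0.f i * (x⁻¹ * h)
        calc x⁻¹ * h * P0.f i = x⁻¹ * (h * P0.f i * h⁻¹) * h := by group
          _ = x⁻¹ * (x * P0.f i * x⁻¹) * h := by rw [ht, hxt]
          _ = _ := by group
      rw [show h = x * (x⁻¹ * h) by group, hn]
      exact mul_mem hx (pow_mem hzE n)
    · intro hh
      refine Equiv.ext fun i => huniq (hidx h i) ?_
      rcases hcomm ⟨h, hh⟩ ⟨uu i, huuE i⟩ with e0 | e0
      · left
        rw [show h * uu i = uu i * h from congrArg Subtype.val e0, mul_inv_cancel_right]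
        rfl
      · right
        rw [show h * uu i = zH * (uu i * h) from congrArg Subtype.val e0, mul_assoc zH, mul_inv_cancel_right]
        rfl
  -- lifts of the generators
  obtain ⟨a', b', ha4, ha2, hb3, hb1, hab⟩ := sfour_pair
  obtain ⟨A₀, hA₀⟩ := QuotientGroup.mk_surjective (e.symm a')
  obtain ⟨B₀, hB₀⟩ := QuotientGroup.mk_surjective (e.symm b')
  have hmk : ∀ h : H, σ h = 1 ↔ e (QuotientGroup.mk h) = 1 := fun h => by
    rw [hker, map_eq_one_iff e e.injective, QuotientGroup.eq_one_iff]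
  have hA' : e (QuotientGroup.mk A₀) = a' := by rw [hA₀, MulEquiv.apply_symm_apply]
  have hB' : e (QuotientGroup.mk B₀) = b' := by rw [hB₀, MulEquiv.apply_symm_apply]
  obtain ⟨c, hc⟩ := perm_norm (σ A₀) (by
    rw [← map_mul, ← map_mul, hmk]; simp only [QuotientGroup.mk_mul, map_mul, hA', ha4]) (by
    rw [Ne, ← map_mul, hmk]; simp only [QuotientGroup.mk_mul, map_mul, hA']; exact ha2)
  obtain ⟨j, hj⟩ := perm_norm_three (c * σ B₀ * c⁻¹) (c * σ A₀ * c⁻¹) hc (by
    have : σ B₀ * (σ B₀ * σ B₀) = 1 := by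
      rw [← map_mul, ← map_mul, hmk]; simp only [QuotientGroup.mk_mul, map_mul, hB', hb3]
    rw [show c * σ B₀ * c⁻¹ * (c * σ B₀ * c⁻¹ * (c * σ B₀ * c⁻¹)) = c * (σ B₀ * (σ B₀ * σ B₀)) * c⁻¹ by group,
      this, mul_one, mul_inv_cancel]) (by
    rw [Ne, conj_eq_one_iff, hmk, hB']; exact hb1) (by
    have : σ A₀ * σ B₀ * (σ A₀ * σ B₀) = 1 := by
      rw [← map_mul, ← map_mul, hmk]; simp only [QuotientGroup.mk_mul, map_mul, hA', hB', hab]
    rw [show c * σ A₀ * c⁻¹ * (c * σ B₀ * c⁻¹) * (c * σ A₀ * c⁻¹ * (c * σ B₀ * c⁻¹)) =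
      c * (σ A₀ * σ B₀ * (σ A₀ * σ B₀)) * c⁻¹ by group, this, mul_one, mul_inv_cancel])
  set d := (c * σ A₀ * c⁻¹) ^ (j : ℕ) * c with hd
  have hdA : ∀ i, (d * σ A₀ * d⁻¹) i = ![1, 2, 3, 0, 4] i := by
    intro i
    rw [← hc i, hd]
    refine Equiv.Perm.ext_iff.1 ?_ i
    rw [mul_inv_rev, show (c * σ A₀ * c⁻¹) ^ (j : ℕ) * c * σ A₀ * (c⁻¹ * ((c * σ A₀ * c⁻¹) ^ (j : ℕ))⁻¹) =
      (c * σ A₀ * c⁻¹) ^ (j : ℕ) * (c * σ A₀ * c⁻¹) * ((c * σ A₀ * c⁻¹) ^ (j : ℕ))⁻¹ by simp only [mul_assoc],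
      ← pow_succ, pow_succ', mul_inv_cancel_right]
  have hdB : ∀ i, (d * σ B₀ * d⁻¹) i = ![2, 0, 1, 3, 4] i := by
    intro i
    rw [← hj i, hd]
    refine Equiv.Perm.ext_iff.1 ?_ i
    group
  -- relabelled involutions
  let w : Fin 4 → H := fun i => uu (d⁻¹ i.castSucc)
  have hwsq : ∀ i, w i * w i = 1 := fun i => by
    obtain ⟨h0, -, h2, -, -⟩ := code_five (d⁻¹ i.castSucc)
    rw [← P0.ph_mul h2 h2, h0, P0.ph_zero]
  have hwswap : ∀ i j, i < j → w j * w i = zH * (w i * w j) := by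
    intro i j hij
    have hne' : d⁻¹ i.castSucc ≠ d⁻¹ j.castSucc := fun e0 =>
      absurd (Fin.castSucc_injective _ (d⁻¹.injective e0)) hij.ne
    have hcodes : ∀ p r : Fin 5, p ≠ r → qmul (![1, 2, 4, 8, 15] r) (![1, 2, 4, 8, 15] p) =
        qmul 16 (qmul (![1, 2, 4, 8, 15] p) (![1, 2, 4, 8, 15] r)) := by decide +kernel
    have := congrArg P0.ph (hcodes _ _ hne')
    rwa [P0.ph_mul (code_five _).2.2.1 (code_five _).2.2.1, P0.ph_mul (by norm_num) (Four.qmul_lt _ _),
      P0.ph_mul (code_five _).2.2.1 (code_five _).2.2.1, P0.ph_basic.1] at this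
  let P : Four zH := ⟨w, hzH2, fun i => hzc _, hwsq, hwswap⟩
  have hflipP : ∀ t : Fin 4 → Bool, ∃ x ∈ E, ∀ i, x * w i * x⁻¹ = (if t i then zH else 1) * w i := by
    intro t
    obtain ⟨q, hq, hqt⟩ := code_flip t
    have hPE : ∀ q, P.ph q ∈ E := fun q => by
      have hf : ∀ i, P.f i ∈ E := fun i => huuE _
      exact mul_mem (pow_mem hzE _) (mul_mem (pow_mem (hf 0) _) (mul_mem (pow_mem (hf 1) _)
        (mul_mem (pow_mem (hf 2) _) (pow_mem (hf 3) _))))
    refine ⟨P.ph q, hPE q, fun i => ?_⟩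
    have h2 : 2 ^ (i : ℕ) < 32 := Nat.pow_lt_pow_right (by norm_num) (by omega : (i : ℕ) < 5)
    have := congrArg P.ph (hqt i)
    rw [P.ph_mul hq h2, P.ph_mul (Four.qmul_lt _ _) hq, P.ph_mul (by split <;> norm_num) h2,
      P.ph_two_pow] at this
    change P.ph q * w i = _ at this
    rw [this, mul_inv_cancel_right]
    split <;> simp [P.ph_basic.1, P.ph_zero] <;> rfl
  have hlift : ∀ (h : H) (τ : Fin 4 → Fin 4) (τ5 : Fin 5 → Fin 5), (∀ i, (d * σ h * d⁻¹) i = τ5 i) →
      (∀ i : Fin 4, τ5 i.castSucc = (τ i).castSucc) → (∃ σ' : Fin 4 → Fin 4, ∀ i, σ' (τ i) = i) →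
      ∃ h', σ h' = σ h ∧ ∀ i, h' * w i = w (τ i) * h' := by
    intro h τ τ5 hτ5 hτ ⟨σ', hσ'⟩
    have hs : ∀ i : Fin 4, ∃ t : Bool, h * w i * h⁻¹ = (if t then zH else 1) * w (τ i) := by
      intro i
      have h1 := hidx h (d⁻¹ i.castSucc)
      have h2 : idx h (d⁻¹ i.castSucc) = d⁻¹ (τ i).castSucc := by
        rw [← hτ, ← hτ5, ← hσ, Equiv.Perm.mul_apply, Equiv.Perm.mul_apply, Equiv.Perm.coe_inv, Equiv.symm_apply_apply]
      rw [h2] at h1
      rcases h1 with e0 | e0
      · exact ⟨false, e0.trans (one_mul _).symm⟩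
      · exact ⟨true, e0⟩
    choose t ht using hs
    obtain ⟨x, hx, hxt⟩ := hflipP (t ∘ σ')
    refine ⟨x * h, by rw [map_mul, (hker x).2 hx, one_mul], fun i => ?_⟩
    have e1 := hxt (τ i)
    simp only [Function.comp, hσ'] at e1
    calc x * h * w i = x * (h * w i * h⁻¹) * h := by group
      _ = x * (if t i then zH else 1) * w (τ i) * x⁻¹ * (x * h) := by rw [ht]; group
      _ = (if t i then zH else 1) * (x * w (τ i) * x⁻¹) * (x * h) := by
          split
          · rw [← hzc x]; group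
          · group
      _ = w (τ i) * (x * h) := by
          rw [e1, ← mul_assoc (if t i then zH else 1)]
          split <;> simp [hzH2]
  obtain ⟨A, hσA, hA⟩ := hlift A₀ ![1, 2, 3, 0] _ hdA (by decide) ⟨![3, 0, 1, 2], by decide⟩
  obtain ⟨B₁, hσB, hB₁⟩ := hlift B₀ ![2, 0, 1, 3] _ hdB (by decide) ⟨![1, 2, 0, 3], by decide⟩
  have hcenterP : ∀ h : H, (∀ i, h * w i = w i * h) → ∃ n < 2, h = zH ^ n := by
    intro h hh
    have hPE : ∀ q, P.ph q ∈ E := fun q => by
      have hf : ∀ i, P.f i ∈ E := fun i => huuE _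
      exact mul_mem (pow_mem hzE _) (mul_mem (pow_mem (hf 0) _) (mul_mem (pow_mem (hf 1) _)
        (mul_mem (pow_mem (hf 2) _) (pow_mem (hf 3) _))))
    have hb := (Nat.bijective_iff_injective_and_card (fun q : Fin 32 => (⟨P.ph q, hPE q⟩ : E))).2
      ⟨fun u v h => Fin.ext (P.ph_inj hzH1 u.2 v.2 (congrArg Subtype.val h)), by rw [Nat.card_fin, hE32]⟩
    refine hcenter h fun i => ?_
    obtain ⟨q, hq⟩ := hb.2 (fE i)
    rw [show P0.f i = P.ph q from (congrArg Subtype.val hq).symm]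
    exact P.commute_ph (hzc h).symm hh q
  have hzw : ∀ (n : ℕ) (i : Fin 4), zH ^ n * w i = w i * zH ^ n := fun n i =>
    ((show Commute zH (w i) from hzc _).pow_left n).eq
  have hword : ∀ i, A * (A * (A * A)) * w i = w i * (A * (A * (A * A))) := by
    intro i
    have m : ∀ i y, A * (w i * y) = w (![1, 2, 3, 0] i) * (A * y) := fun i y => by rw [← mul_assoc, hA, mul_assoc]
    simp only [mul_assoc, hA, m]
    fin_cases i <;> rfl
  have hwordB : ∀ i, B₁ * (B₁ * B₁) * w i = w i * (B₁ * (B₁ * B₁)) := by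
    intro i
    have m : ∀ i y, B₁ * (w i * y) = w (![2, 0, 1, 3] i) * (B₁ * y) := fun i y => by rw [← mul_assoc, hB₁, mul_assoc]
    simp only [mul_assoc, hB₁, m]
    fin_cases i <;> rfl
  obtain ⟨α, hα, hA4⟩ := hcenterP _ hword
  obtain ⟨β, hβ, hB3⟩ := hcenterP _ hwordB
  set B := B₁ * zH ^ β with hBdef
  have hB : ∀ i, B * w i = w (![2, 0, 1, 3] i) * B := fun i => by
    rw [hBdef, mul_assoc, hzw, ← mul_assoc, hB₁, mul_assoc]
  have hwordAB : ∀ i, A * (B * (A * B)) * w i = w i * (A * (B * (A * B))) := by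
    intro i
    have m : ∀ i y, A * (w i * y) = w (![1, 2, 3, 0] i) * (A * y) := fun i y => by rw [← mul_assoc, hA, mul_assoc]
    have m' : ∀ i y, B * (w i * y) = w (![2, 0, 1, 3] i) * (B * y) := fun i y => by rw [← mul_assoc, hB, mul_assoc]
    simp only [mul_assoc, hA, hB, m, m']
    fin_cases i <;> rfl
  obtain ⟨γ, hγ, hAB⟩ := hcenterP _ hwordAB
  have hb3' : B * (B * B) = 1 := by
    have hc : Commute (zH ^ β) B₁ := (show Commute zH B₁ from hzc _).pow_left β
    calc B * (B * B) = B₁ * (B₁ * B₁) * (zH ^ β * (zH ^ β * zH ^ β)) := by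
          rw [hBdef]
          simp only [mul_assoc, hc.left_comm]
      _ = zH ^ (β + (β + (β + β))) := by rw [hB3, ← pow_add, ← pow_add, ← pow_add]
      _ = 1 := by
          rw [show β + (β + (β + β)) = 2 * (2 * β) by ring, pow_mul, pow_two, hzH2, one_pow]
  let Q : Gens (α + 2 * γ) zH :=
    { f := w
      zz := hzH2
      zf := fun i => hzc _
      sq := hwsq
      swap := hwswap
      a := A
      b := B
      k_lt := by omega
      za := hzc _
      zb := hzc _
      af := hA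
      bf := hB
      a4 := by rw [hA4]; congr 1; omega
      b3 := hb3'
      ab2 := by rw [hAB]; congr 1; omega }
  have hcardH : Nat.card H = 768 := by
    rw [Subgroup.card_eq_card_quotient_mul_card_subgroup E, Nat.card_congr e.toEquiv, hE32, Nat.card_perm,
      Nat.card_fin]
    rfl
  exact ⟨α + 2 * γ, Q, (Nat.bijective_iff_injective_and_card (fun x : Fin 768 => Q.el x)).2
    ⟨fun x y h => Fin.ext (Q.el_eq hzH1 x y x.2 y.2 h), by rw [Nat.card_fin, hcardH]⟩⟩

/-- The centraliser is one of the models. -/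
theorem exists_local {z : G} (hz : orderOf z = 2) (E : Subgroup ↥(centralizer ({z} : Set G))) [E.Normal]
    (hE : Cfsg.IsExtraspecial 2 ↥E) (hE32 : Nat.card ↥E = 32)
    (hEminus : ∀ A : Subgroup ↥E, Cfsg.IsElementaryAbelian 2 A → Nat.card ↥A ≠ 8)
    (hCE : centralizer (E : Set ↥(centralizer ({z} : Set G))) ≤ E)
    (e : (↥(centralizer ({z} : Set G)) ⧸ E) ≃* Equiv.Perm (Fin 4)) :
    ∃ k, Nonempty (Local k z) := by
  have hzz : z * z = 1 := by rw [← pow_two, ← hz, pow_orderOf_eq_one]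
  have hz1 : z ≠ 1 := fun e0 => by rw [e0, orderOf_one] at hz; omega
  let zH : centralizer ({z} : Set G) := ⟨z, mem_centralizer_singleton_iff.2 rfl⟩
  have hzH1 : zH ≠ 1 := fun e0 => hz1 (congrArg Subtype.val e0)
  obtain ⟨k, Q, hbij⟩ := exists_gens zH (fun h => Subtype.ext (mem_centralizer_singleton_iff.1 h.2).symm)
    (Subtype.ext hzz) hzH1 E hE hE32 hEminus hCE e
  refine ⟨k, ⟨{ el := fun x => (Q.el x : G), k_lt := Q.k_lt, mul' := ?_, inj' := ?_, mem' := ?_, z_eq := ?_ }⟩⟩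
  · exact fun x _ y _ => congrArg Subtype.val (Q.el_mul x y)
  · exact fun x hx y hy h => Q.el_eq hzH1 x y hx hy (Subtype.ext h)
  · intro g
    refine ⟨fun hg => ?_, fun ⟨x, _, hx⟩ => hx ▸ (Q.el x).2⟩
    obtain ⟨x, hx⟩ := hbij.2 ⟨g, hg⟩
    exact ⟨x, x.2, congrArg Subtype.val hx⟩
  · have : Q.el 16 = zH := by
      show Q.ph (16 % 32) * Q.sec (16 / 32 % 24) = zH
      rw [show (16 / 32 % 24 : ℕ) = 0 by norm_num, Q.sec_zero, mul_one]
      exact Q.toFour.ph_basic.1
    exact congrArg Subtype.val this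

end Cfsg.Agent.AutL34Type
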