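import Cfsg.Agent.Lib.AutL34Type.Fusion
import Cfsg.Agent.Lib.Involutions.ThompsonTransfer
import Cfsg.Agent.Lib.L34Type.Defs

/-!
Transfer in the first model: a normal subgroup of index four with a Sylow 2-subgroup of type `L₃(4)`.
-/

set_option autoImplicit false
set_option maxRecDepth 100000
set_option linter.unusedSectionVars false
set_option linter.style.haveILetI false

namespace Cfsg.Agent.AutL34Type

open Subgroup

universe u

variable {G : Type u} [Group G] [Finite G]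

namespace Local

variable {z : G} (D : Local 0 z)

include D in
theorem card_cent_z : Nat.card (centralizer ({z} : Set G)) = 768 := by
  have h := D.card_pred (fun _ => True) (fun _ => true) fun x _ => by simp
  simp only [and_true, List.countP_true, List.length_range] at h
  exact h

/-- A Sylow 2-subgroup of the group. -/
noncomputable def tSub : Subgroup G := D.sub t_closed

theorem tSub_card : Nat.card D.tSub = 256 :=
  (D.card_sub _ t_facts.1).trans t_facts.2.1

theorem tSub_sylow : ∃ S : Sylow 2 G, (S : Subgroup G) = D.tSub := by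
  haveI : Fact (Nat.Prime 2) := ⟨Nat.prime_two⟩
  obtain ⟨Q, hQ⟩ := (IsPGroup.of_card (n := 8) (by rw [D.tSub_card]; norm_num) : IsPGroup 2 D.tSub).exists_le_sylow
  refine ⟨Q, ?_⟩
  by_contra hne
  haveI : Group.IsNilpotent (Q : Subgroup G) := Q.2.isNilpotent
  set P := D.tSub with hP
  have hlt : P.subgroupOf Q < ⊤ := by
    rw [lt_top_iff_ne_top]
    intro e
    rw [subgroupOf_eq_top] at e
    exact hne (le_antisymm e hQ)
  obtain ⟨n, hnN, hnP⟩ := SetLike.exists_of_lt (normalizerCondition_of_isNilpotent (P.subgroupOf Q) hlt)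
  have hconj : ∀ p ∈ P, ((n : G))⁻¹ * p * n ∈ P := by
    intro p hp
    have := (mem_normalizer_iff.1 (inv_mem hnN) ⟨p, hQ hp⟩).1 (mem_subgroupOf.2 hp)
    simpa [mem_subgroupOf] using this
  have h16T : 16 ∈ tList := by decide +kernel
  have hzP : z ∈ P := ⟨16, h16T, D.z_eq⟩
  have hPC : P ≤ centralizer ({z} : Set G) := D.sub_le _
  have hnz : ((n : G))⁻¹ * z * n = z := by
    obtain ⟨v, hv, hve⟩ := hconj z hzP
    obtain ⟨hlt', -, -⟩ := closedL_spec t_closed
    have hv' := hlt' v hv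
    have hcen : (tList.all fun y => cm 0 v y) = true := by
      rw [List.all_eq_true]
      intro y hy
      rw [← D.commute_iff hv' (hlt' y hy), hve]
      have h2 : (n : G) * D.el y * (n : G)⁻¹ ∈ P := by
        have := (mem_normalizer_iff.1 hnN ⟨D.el y, hQ ⟨y, hy, rfl⟩⟩).1 (mem_subgroupOf.2 ⟨y, hy, rfl⟩)
        simpa [mem_subgroupOf] using this
      have h3 := mem_centralizer_singleton_iff.1 (hPC h2)
      calc (n : G)⁻¹ * z * n * D.el y = (n : G)⁻¹ * (z * ((n : G) * D.el y * (n : G)⁻¹)) * n := by group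
        _ = (n : G)⁻¹ * ((n : G) * D.el y * (n : G)⁻¹ * z) * n := by rw [h3]
        _ = D.el y * ((n : G)⁻¹ * z * n) := by group
    have hf := List.all_eq_true.1 t_facts.2.2.1 v hv
    rw [hcen] at hf
    simp only [Bool.not_true, Bool.false_or, Bool.or_eq_true, Nat.beq_eq] at hf
    rcases hf with h0 | h0
    · exfalso
      rw [h0, D.el_zero] at hve
      have e : z = 1 := by
        calc z = (n : G) * ((n : G)⁻¹ * z * n) * (n : G)⁻¹ := by group
          _ = 1 := by rw [← hve]; group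
      rw [← D.z_eq, D.el_eq_one_iff (by norm_num)] at e
      norm_num at e
    · rw [← hve, h0, D.z_eq]
  set Q' := (Q : Subgroup G) ⊓ centralizer ({z} : Set G)
  have hP' : P ≤ Q' := le_inf hQ hPC
  have hnQ' : (n : G) ∈ Q' := by
    refine mem_inf.2 ⟨n.2, mem_centralizer_singleton_iff.2 ?_⟩
    calc (n : G) * z = n * ((n : G)⁻¹ * z * n) := by rw [hnz]
      _ = z * n := by group
  obtain ⟨m, hm⟩ := IsPGroup.iff_card.1 (Q.2.to_le (inf_le_left : Q' ≤ (Q : Subgroup G)))
  have hdvd : Nat.card Q' ∣ 768 := D.card_cent_z ▸ card_dvd_of_le (inf_le_right : Q' ≤ _)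
  have hle : Nat.card Q' ≤ Nat.card P := by
    rw [D.tSub_card, hm]
    refine Nat.le_of_dvd (by norm_num) (Nat.Coprime.dvd_of_dvd_mul_right (k := 2 ^ m) (n := 3) ?_ ?_)
    · exact Nat.Coprime.pow_left m (by norm_num)
    · rw [← hm]; exact hdvd
  have e := eq_of_le_of_card_ge hP' hle
  rw [← e] at hnQ'
  exact hnP (mem_subgroupOf.2 hnQ')

theorem not_conj_of_sep {r x : ℕ} (hrr : r ∈ rigidReps 0) (hx : x ∈ reps 0)
    (h : (prof 0 r).length < (prof 0 x).length ∨
      ((prof 0 x).length = (prof 0 r).length ∧ ∃ j, killCount 0 j (prof 0 x) ≠ killCount 0 j (prof 0 r))) :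
    ¬ IsConj (D.el x) (D.el r) := by
  intro hc
  obtain ⟨h1, h2⟩ := D.profile_of_conj (rigid_ok 0 D.k_lt r hrr).1 hrr hx hc
  rcases h with h | ⟨h, j, hj⟩
  · omega
  · exact hj (h2 h j)

theorem separated : (∀ r ∈ [16, 15, 96, 128], ¬ IsConj (D.el r) (D.el 1)) ∧
    (∀ r ∈ [16, 15, 96, 1], ¬ IsConj (D.el r) (D.el 128) ∧ ¬ IsConj (D.el r) (D.el 129)) := by
  obtain ⟨s1, s2, s3, l1, l96, l128, l129⟩ := sep_profiles
  have l16 : (prof 0 16).length = 64 ∧ (prof 0 15).length = 64 := by decide +kernel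
  have hm : ∀ r ∈ [16, 15, 1, 96, 128, 129], r ∈ reps 0 := by decide +kernel
  have hg : ∀ r ∈ [1, 128, 129], r ∈ rigidReps 0 := by decide +kernel
  constructor
  · intro r hr
    simp only [List.mem_cons, List.not_mem_nil, or_false] at hr
    refine D.not_conj_of_sep (hg 1 (by simp)) (hm r (by rcases hr with rfl | rfl | rfl | rfl <;> simp)) ?_
    rcases hr with rfl | rfl | rfl | rfl
    · left; omega
    · left; omega
    · exact Or.inr ⟨by omega, 1, Ne.symm s1⟩
    · exact Or.inr ⟨by omega, 1, Ne.symm s2⟩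
  · intro r hr
    simp only [List.mem_cons, List.not_mem_nil, or_false] at hr
    have hr' := hm r (by rcases hr with rfl | rfl | rfl | rfl <;> simp)
    refine ⟨D.not_conj_of_sep (hg 128 (by simp)) hr' ?_, D.not_conj_of_sep (hg 129 (by simp)) hr' ?_⟩
    · rcases hr with rfl | rfl | rfl | rfl
      · left; omega
      · left; omega
      · exact Or.inr ⟨by omega, 2, Ne.symm s3⟩
      · exact Or.inr ⟨by omega, 1, s2⟩
    · left
      rcases hr with rfl | rfl | rfl | rfl <;> omega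

theorem exists_index_two_avoiding {l : List ℕ} (hcl : closedL 0 l = true) (hnd : l.Nodup) (hlen : l.length = 128)
    (hlT : (l.all tList.contains) = true) (rs : List ℕ)
    (hcls : (l.all fun y => !(isInv 0 y) ||
      rs.any fun r => Nat.beq (mul 0 (wit 0 y) r) (mul 0 y (wit 0 y))) = true)
    (hrs : ∀ r ∈ rs, r < 768) {t : ℕ} (ht : t < 768) (hti : isInv 0 t = true)
    (hsep : ∀ r ∈ rs, ¬ IsConj (D.el r) (D.el t)) :
    ∃ K : Subgroup G, K.index = 2 ∧ D.el t ∉ K := by
  haveI : Fact (Nat.Prime 2) := ⟨Nat.prime_two⟩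
  obtain ⟨S, hS⟩ := D.tSub_sylow
  set M := D.sub hcl with hM
  have hMS : M ≤ (S : Subgroup G) := by
    rw [hS]
    rintro _ ⟨x, hx, rfl⟩
    have := List.all_eq_true.1 hlT x hx
    exact ⟨x, List.contains_iff_mem.1 this, rfl⟩
  have hrel : M.relIndex S = 2 := by
    have h := Subgroup.card_eq_card_quotient_mul_card_subgroup (M.subgroupOf S)
    rw [Nat.card_congr (subgroupOfEquivOfLe hMS).toEquiv, D.card_sub hcl hnd, hlen, hS, D.tSub_card] at h
    rw [relIndex, hS, index]
    omega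
  refine Involutions.ThompsonTransfer.exists_index_two_of_no_conj M
    (Involutions.ThompsonTransfer.index_mod_four hMS hrel ?_) _ ((D.inv_iff ht).2 hti) ?_
  · rw [Nat.odd_iff, ← Nat.two_dvd_ne_zero]
    exact S.not_dvd_index
  · rintro g ⟨y, hy, e⟩
    have hy' := (closedL_spec hcl).1 y hy
    have hiy : isInv 0 y = true := by
      rw [← D.inv_iff hy', e, ← MulAut.conj_apply, MulEquiv.orderOf_eq, D.inv_iff ht, hti]
    have hw : wit 0 y < 768 := by
      have h2 := List.all_eq_true.1 (classes 0 D.k_lt) y (List.mem_range.2 hy')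
      simp only [hiy, Bool.not_true, Bool.false_or, Bool.and_eq_true, decide_eq_true_eq] at h2
      exact h2.1
    have h3 := List.all_eq_true.1 hcls y hy
    simp only [hiy, Bool.not_true, Bool.false_or, List.any_eq_true, Nat.beq_eq] at h3
    obtain ⟨r, hr, er⟩ := h3
    have hc1 : IsConj (D.el r) (D.el y) := isConj_iff.2 ⟨D.el (wit 0 y), by
      rw [← D.el_mul hw (hrs r hr), er, D.el_mul hy' hw, mul_inv_cancel_right]⟩
    exact hsep r hr (hc1.trans (isConj_iff.2 ⟨g⁻¹, by rw [e]; group⟩))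

/-- The subgroup of order 64. -/
noncomputable def uSub : Subgroup G := D.sub u_facts.2.1

/-- One elementary abelian subgroup of order 16. -/
noncomputable def rSub : Subgroup G := D.sub u_facts.2.2.2.2.1

/-- The other one. -/
noncomputable def aSub : Subgroup G := D.sub u_facts.2.2.2.2.2.2.2.1

theorem shape : L34Type.Shape D.uSub D.rSub D.aSub := by
  obtain ⟨hun, huc, hul, hrn, hrc, hrl, han, hac, hal⟩ := u_facts
  obtain ⟨f1, f2, f3, f4, f5, f6, f7, f8, -, -, -, -⟩ := shape_facts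
  simp only [List.all_eq_true, Bool.and_eq_true, Bool.or_eq_true, Bool.not_eq_true', List.contains_iff_mem,
    Nat.beq_eq] at f1 f2 f4 f5 f6 f7 f8
  obtain ⟨hult, -, -⟩ := closedL_spec huc
  obtain ⟨hrlt, -, -⟩ := closedL_spec hrc
  obtain ⟨halt, -, -⟩ := closedL_spec hac
  have hsq : ∀ x, x < 768 → mul 0 x x = 0 → D.el x * D.el x = 1 := fun x hx e => by
    rw [← D.el_mul hx hx, e, D.el_zero]
  exact
    { card_S := (D.card_sub huc hun).trans hul
      R_le := by rintro _ ⟨x, hx, rfl⟩; exact ⟨x, (f1 x hx).1, rfl⟩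
      A_le := by rintro _ ⟨x, hx, rfl⟩; exact ⟨x, (f2 x hx).1, rfl⟩
      R_card := (D.card_sub hrc hrn).trans hrl
      A_card := (D.card_sub hac han).trans hal
      R_sq := by rintro _ ⟨x, hx, rfl⟩; exact hsq x (hrlt x hx) (f1 x hx).2
      A_sq := by rintro _ ⟨x, hx, rfl⟩; exact hsq x (halt x hx) (f2 x hx).2
      inf_card := by
        rw [← f3, ← List.countP_eq_length_filter, ← D.card_sub_pred hrc hrn (fun g => g ∈ D.aSub) _ fun x hx => by
          rw [List.contains_iff_mem]; exact D.mem_sub hac (hrlt x hx)]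
        exact Nat.card_congr
          { toFun := fun g => ⟨⟨g.1, g.2.1⟩, g.2.2⟩
            invFun := fun g => ⟨g.1.1, mem_inf.2 ⟨g.1.2, g.2⟩⟩
            left_inv := fun g => rfl
            right_inv := fun g => rfl }
      involutions := by
        rintro _ ⟨x, hx, rfl⟩ e
        rw [← D.el_mul (hult x hx) (hult x hx), D.el_eq_one_iff (mul_lt _ _ _)] at e
        rcases f4 x hx with (h0 | h0) | h0
        · rw [e] at h0; simp at h0
        · exact Or.inl ⟨x, h0, rfl⟩
        · exact Or.inr ⟨x, h0, rfl⟩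
      sq := by
        rintro _ ⟨x, hx, rfl⟩
        rw [← D.el_mul (hult x hx) (hult x hx)]
        exact mem_inf.2 ⟨⟨_, (f5 x hx).1, rfl⟩, ⟨_, (f5 x hx).2, rfl⟩⟩
      central := by
        rintro g hg _ ⟨s, hs, rfl⟩
        obtain ⟨⟨x, hx, rfl⟩, hA⟩ := mem_inf.1 hg
        rw [D.commute_iff (hrlt x hx) (hult s hs)]
        rcases f6 s hs x hx with h0 | h0
        · exact absurd ((D.mem_sub hac (hrlt x hx)).1 hA) (by simpa using h0)
        · exact h0
      cent_R := by
        rintro _ ⟨x, hx, rfl⟩ hA _ ⟨s, hs, rfl⟩ e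
        rw [D.commute_iff (hrlt x hx) (hult s hs)] at e
        rcases f7 s hs x hx with (h0 | h0) | h0
        · exact absurd ⟨x, h0, rfl⟩ hA
        · rw [e] at h0; exact absurd h0 (by simp)
        · exact ⟨s, h0, rfl⟩
      cent_A := by
        rintro _ ⟨x, hx, rfl⟩ hA _ ⟨s, hs, rfl⟩ e
        rw [D.commute_iff (halt x hx) (hult s hs)] at e
        rcases f8 s hs x hx with (h0 | h0) | h0
        · exact absurd ⟨x, h0, rfl⟩ hA
        · rw [e] at h0; exact absurd h0 (by simp)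
        · exact ⟨s, h0, rfl⟩ }

/-- The normal subgroup of index four. -/
theorem exists_normal_four : ∃ M : Subgroup G, M.Normal ∧ M.index = 4 ∧ D.uSub ≤ M ∧
    (∀ g, g * g ∈ M) ∧ D.el 1 ∉ M ∧ ∃ S : Sylow 2 M, (S : Subgroup M).map M.subtype = D.uSub := by
  haveI : Fact (Nat.Prime 2) := ⟨Nat.prime_two⟩
  obtain ⟨⟨han, hac, hal, haT⟩, ⟨hcn, hcc, hcl, hcT⟩⟩ := half_facts
  obtain ⟨hca, hcc'⟩ := half_classes
  obtain ⟨sep1, sep2⟩ := D.separated
  have hlt : ∀ r ∈ [16, 15, 96, 128] ++ [16, 15, 96, 1], r < 768 := by decide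
  have hi : isInv 0 1 = true ∧ isInv 0 128 = true ∧ isInv 0 129 = true := by decide +kernel
  obtain ⟨K₁, hK₁, h1⟩ := D.exists_index_two_avoiding hac han hal haT _ hca
    (fun r hr => hlt r (List.mem_append_left _ hr)) (by norm_num) hi.1 sep1
  obtain ⟨K₂, hK₂, h2⟩ := D.exists_index_two_avoiding hcc hcn hcl hcT _ hcc'
    (fun r hr => hlt r (List.mem_append_right _ hr)) (by norm_num) hi.2.1 fun r hr => (sep2 r hr).1
  obtain ⟨K₃, hK₃, h3⟩ := D.exists_index_two_avoiding hcc hcn hcl hcT _ hcc'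
    (fun r hr => hlt r (List.mem_append_right _ hr)) (by norm_num) hi.2.2 fun r hr => (sep2 r hr).2
  haveI := normal_of_index_eq_two hK₁
  haveI := normal_of_index_eq_two hK₂
  haveI := normal_of_index_eq_two hK₃
  set M := K₁ ⊓ (K₂ ⊓ K₃) with hMdef
  haveI hMn : M.Normal := inferInstance
  have hsqM : ∀ g, g * g ∈ M := fun g => mem_inf.2 ⟨mul_self_mem_of_index_two hK₁ g,
    mem_inf.2 ⟨mul_self_mem_of_index_two hK₂ g, mul_self_mem_of_index_two hK₃ g⟩⟩
  obtain ⟨hult, -, -⟩ := closedL_spec u_facts.2.1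
  have hUM : D.uSub ≤ M := by
    rintro _ ⟨x, hx, rfl⟩
    have h := List.all_eq_true.1 sq_cert x hx
    simp only [List.any_eq_true, Bool.and_eq_true, decide_eq_true_eq, Nat.beq_eq] at h
    obtain ⟨⟨x', g, g'⟩, -, ⟨⟨-, hg⟩, hg'⟩, e⟩ := h
    rw [← e, D.el_mul (mul_lt _ _ _) (mul_lt _ _ _), D.el_mul hg hg, D.el_mul hg' hg']
    exact mul_mem (hsqM _) (hsqM _)
  obtain ⟨S, hS⟩ := D.tSub_sylow
  obtain ⟨-, -, -, hT, hUT, -, -, -, hTa, hTc, -⟩ := t_facts
  obtain ⟨htlt, -, -⟩ := closedL_spec t_closed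
  simp only [List.all_eq_true, Bool.or_eq_true, List.contains_iff_mem, List.any_eq_true, Nat.beq_eq] at hT hUT hTa hTc
  have hTM : M ⊓ D.tSub = D.uSub := by
    refine le_antisymm ?_ (le_inf hUM fun g hg => by obtain ⟨x, hx, rfl⟩ := hg; exact ⟨x, hUT x hx, rfl⟩)
    rintro g hg
    obtain ⟨hgM, ⟨x, hx, rfl⟩⟩ := mem_inf.1 hg
    have hcase : ∀ u ∈ uList 0, ∀ t < 768, mul 0 u t = x → D.el t ∈ M := by
      intro u hu t ht e
      rw [← e, D.el_mul (hult u hu) ht] at hgM
      exact (M.mul_mem_cancel_left (hUM ⟨u, hu, rfl⟩)).1 hgM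
    rcases hT x hx with ((hu | ha) | hc) | ⟨u, hu, e⟩
    · exact ⟨x, hu, rfl⟩
    · rcases hTa x ha with hu | ⟨u, hu, e⟩
      · exact ⟨x, hu, rfl⟩
      · exact absurd (mem_inf.1 (mem_inf.1 (hcase u hu 128 (by norm_num) e)).2).1 h2
    · rcases hTc x hc with hu | ⟨u, hu, e⟩
      · exact ⟨x, hu, rfl⟩
      · exact absurd (mem_inf.1 (hcase u hu 1 (by norm_num) e)).1 h1
    · exact absurd (mem_inf.1 (mem_inf.1 (hcase u hu 129 (by norm_num) e)).2).2 h3
  have hrel : M.relIndex D.tSub = 4 := by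
    have h := Subgroup.card_eq_card_quotient_mul_card_subgroup (M.subgroupOf D.tSub)
    rw [← inf_subgroupOf_right, hTM,
      Nat.card_congr (subgroupOfEquivOfLe (hTM ▸ inf_le_right : D.uSub ≤ D.tSub)).toEquiv,
      D.shape.card_S, D.tSub_card] at h
    rw [← inf_relIndex_right, hTM, relIndex, index]
    omega
  have hq : IsPGroup 2 (G ⧸ M) := fun q => ⟨1, by
    obtain ⟨g, rfl⟩ := QuotientGroup.mk_surjective q
    rw [pow_one, pow_two, ← QuotientGroup.mk_mul, QuotientGroup.eq_one_iff]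
    exact hsqM g⟩
  obtain ⟨j, hj⟩ := IsPGroup.iff_card.1 hq
  have hodd : ¬ 2 ∣ (M ⊔ D.tSub).index := fun h => S.not_dvd_index
    (hS ▸ h.trans (index_dvd_of_le le_sup_right))
  have hsup : (M ⊔ D.tSub).index = 1 := by
    have hd : (M ⊔ D.tSub).index ∣ 2 ^ j := hj ▸ index_dvd_of_le (le_sup_left : M ≤ M ⊔ D.tSub)
    obtain ⟨i, -, hi'⟩ := (Nat.dvd_prime_pow Nat.prime_two).1 hd
    rcases i with _ | i
    · simpa using hi'
    · exact absurd (hi' ▸ dvd_pow_self 2 (Nat.succ_ne_zero i)) hodd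
  have hidx : M.index = 4 := by
    rw [← relIndex_mul_index (le_sup_left : M ≤ M ⊔ D.tSub), hsup, mul_one, relIndex_sup_left, hrel]
  refine ⟨M, hMn, hidx, hUM, hsqM, fun h => h1 (mem_inf.1 h).1, ?_⟩
  have hU2 : IsPGroup 2 D.uSub := IsPGroup.of_card (n := 6) (by rw [D.shape.card_S]; norm_num)
  obtain ⟨Q, hQ⟩ := (hU2.of_equiv (subgroupOfEquivOfLe hUM).symm).exists_le_sylow
  refine ⟨Q, le_antisymm ?_ fun u hu => ⟨⟨u, hUM hu⟩, hQ (mem_subgroupOf.2 hu), rfl⟩⟩
  obtain ⟨m, hm⟩ := IsPGroup.iff_card.1 Q.2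
  have hle : D.uSub ≤ (Q : Subgroup M).map M.subtype := fun u hu => ⟨⟨u, hUM hu⟩, hQ (mem_subgroupOf.2 hu), rfl⟩
  refine (eq_of_le_of_card_ge hle ?_).ge
  rw [card_map_of_injective M.subtype_injective, hm, D.shape.card_S]
  have hd : Nat.card G = 256 * S.index := by
    rw [← D.tSub_card, ← hS]
    exact ((S : Subgroup G).card_mul_index).symm
  have h4 : Nat.card G = Nat.card M * 4 := by rw [← hidx, card_mul_index]
  have hd2 : 2 ^ m ∣ 64 * S.index := by
    rw [← hm]
    refine (card_subgroup_dvd_card (Q : Subgroup M)).trans (dvd_of_eq ?_)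
    omega
  refine Nat.le_of_dvd (by norm_num) (Nat.Coprime.dvd_of_dvd_mul_right ?_ hd2)
  exact Nat.Coprime.pow_left m (Nat.coprime_two_left.2 (Nat.odd_iff.2 (Nat.two_dvd_ne_zero.1 S.not_dvd_index)))

end Local

end Cfsg.Agent.AutL34Type
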