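import Cfsg.Agent.Lib.AutL34Type.Local
import Cfsg.Agent.Lib.AutL34Type.Facts

/-!
Subgroups, counts and Sylow subgroups of centralisers read off from the model.
-/

set_option autoImplicit false
set_option maxRecDepth 100000
set_option linter.unusedSectionVars false
set_option linter.style.haveILetI false

namespace Cfsg.Agent.AutL34Type

open Subgroup

universe u

variable {G : Type u} [Group G]

theorem closedL_spec {k : ℕ} {l : List ℕ} (h : closedL k l = true) :
    (∀ x ∈ l, x < 768) ∧ 0 ∈ l ∧ ∀ x ∈ l, ∀ y ∈ l, mul k x y ∈ l := by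
  simp only [closedL, closedM, Bool.and_eq_true, List.all_eq_true, decide_eq_true_eq, List.contains_iff_mem,
    Bool.or_eq_true, Bool.not_eq_true', List.mem_range] at h
  obtain ⟨⟨⟨hlt, h0⟩, hm⟩, hmul⟩ := h
  refine ⟨hlt, h0, fun x hx y hy => (hm _ (mul_lt k x y)).resolve_left ?_⟩
  rw [hmul x hx y hy]
  simp

namespace Local

variable {k : ℕ} {z : G} (D : Local k z)

/-- Iterated squares. -/
theorem el_sqn : ∀ (j x : ℕ), x < 768 → D.el (sqn k j x) = D.el x ^ 2 ^ j := by
  intro j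
  induction j with
  | zero => intro x _; simp [sqn]
  | succ j ih =>
    intro x hx
    rw [sqn, ih _ (mul_lt _ _ _), D.el_mul hx hx, ← pow_two, ← pow_mul]
    congr 1
    ring

theorem sqn_lt : ∀ (j x : ℕ), x < 768 → sqn k j x < 768
  | 0, _, h => h
  | j + 1, _, _ => sqn_lt j _ (mul_lt _ _ _)

theorem el_zero : D.el 0 = 1 := by
  have h : ∀ k < 4, mul k 0 0 = 0 := by decide +kernel
  have e := D.el_mul (x := 0) (y := 0) (by norm_num) (by norm_num)
  rw [h k D.k_lt] at e
  exact mul_eq_right.1 e.symm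

theorem el_eq_one_iff {x : ℕ} (hx : x < 768) : D.el x = 1 ↔ x = 0 :=
  ⟨fun h => D.el_inj hx (by norm_num) (h.trans D.el_zero.symm), fun h => h ▸ D.el_zero⟩

theorem el_eq_z_iff {x : ℕ} (hx : x < 768) : D.el x = z ↔ x = 16 :=
  ⟨fun h => D.el_inj hx (by norm_num) (h.trans D.z_eq.symm), fun h => h ▸ D.z_eq⟩

theorem commute_iff {x y : ℕ} (hx : x < 768) (hy : y < 768) :
    D.el x * D.el y = D.el y * D.el x ↔ cm k x y = true := by
  rw [← D.el_mul hx hy, ← D.el_mul hy hx, cm, Nat.beq_eq]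
  exact ⟨fun h => D.el_inj (mul_lt _ _ _) (mul_lt _ _ _) h, fun h => h ▸ rfl⟩

theorem inv_iff {x : ℕ} (hx : x < 768) : orderOf (D.el x) = 2 ↔ isInv k x = true := by
  simp only [isInv, Bool.and_eq_true, Nat.beq_eq, Bool.not_eq_true', orderOf_eq_iff (show 0 < 2 by norm_num)]
  constructor
  · rintro ⟨h1, h2⟩
    refine ⟨(D.el_eq_one_iff (mul_lt _ _ _)).1 (by rw [D.el_mul hx hx, ← pow_two, h1]), ?_⟩
    by_contra h0
    simp only [Bool.not_eq_false, Nat.beq_eq] at h0
    exact h2 1 (by norm_num) one_pos (by rw [pow_one, h0, D.el_zero])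
  · rintro ⟨h1, h2⟩
    refine ⟨by rw [pow_two, ← D.el_mul hx hx, h1, D.el_zero], fun m hm hm0 => ?_⟩
    rw [show m = 1 by omega, pow_one]
    intro h
    rw [(D.el_eq_one_iff hx).1 h] at h2
    simp at h2

/-- The elements commuting with `z` and the elements of a list. -/
def cent (z : G) (gs : List G) : Subgroup G := centralizer ({z} : Set G) ⊓ centralizer {g | g ∈ gs}

theorem mem_cent {z : G} {gs : List G} {g : G} :
    g ∈ cent z gs ↔ g ∈ centralizer ({z} : Set G) ∧ ∀ y ∈ gs, g * y = y * g := by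
  rw [cent, mem_inf, mem_centralizer_iff (s := {y | y ∈ gs})]
  exact and_congr_right fun _ => ⟨fun h y hy => (h y hy).symm, fun h y hy => (h y hy).symm⟩

theorem card_pred (p : G → Prop) (b : ℕ → Bool) (h : ∀ x < 768, p (D.el x) ↔ b x = true) :
    Nat.card {g : G // g ∈ centralizer ({z} : Set G) ∧ p g} = (List.range 768).countP b := by
  classical
  let S := ((List.range 768).filter b).toFinset
  have hS : ∀ x, x ∈ S ↔ x < 768 ∧ b x = true := fun x => by
    simp [S]
  let f : S → {g : G // g ∈ centralizer ({z} : Set G) ∧ p g} := fun x =>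
    ⟨D.el x, D.el_mem ((hS x).1 x.2).1, (h x ((hS x).1 x.2).1).2 ((hS x).1 x.2).2⟩
  have hf : Function.Bijective f := by
    refine ⟨fun x y e => Subtype.ext (D.el_inj ((hS x).1 x.2).1 ((hS y).1 y.2).1 (congrArg Subtype.val e)), ?_⟩
    rintro ⟨g, hg, hp⟩
    obtain ⟨x, hx, rfl⟩ := (D.mem' g).1 hg
    exact ⟨⟨x, (hS x).2 ⟨hx, (h x hx).1 hp⟩⟩, rfl⟩
  rw [← Nat.card_eq_of_bijective f hf, Nat.card_eq_finsetCard,
    List.toFinset_card_of_nodup (List.nodup_range.filter _), List.countP_eq_length_filter]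

theorem card_cent {l : List ℕ} (hl : ∀ x ∈ l, x < 768) :
    Nat.card (cent z (l.map D.el)) = centCount k l := by
  rw [centCount, ← D.card_pred (fun g => ∀ y ∈ l.map D.el, g * y = y * g) (fun h => l.all (cm k h)) fun x hx => ?_]
  · exact Nat.card_congr (Equiv.subtypeEquivRight fun g => mem_cent)
  · rw [List.all_eq_true]
    exact ⟨fun h y hy => (D.commute_iff hx (hl y hy)).1 (h _ (List.mem_map.2 ⟨y, hy, rfl⟩)),
      fun h y hy => by obtain ⟨a, ha, rfl⟩ := List.mem_map.1 hy; exact (D.commute_iff hx (hl a ha)).2 (h a ha)⟩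

/-- The subgroup with a given closed list of codes. -/
def sub {l : List ℕ} (h : closedL k l = true) : Subgroup G where
  carrier := {g | ∃ x ∈ l, D.el x = g}
  one_mem' := ⟨0, (closedL_spec h).2.1, D.el_zero⟩
  mul_mem' := by
    rintro _ _ ⟨x, hx, rfl⟩ ⟨y, hy, rfl⟩
    exact ⟨_, (closedL_spec h).2.2 x hx y hy, D.el_mul ((closedL_spec h).1 x hx) ((closedL_spec h).1 y hy)⟩
  inv_mem' := by
    rintro _ ⟨x, hx, rfl⟩
    obtain ⟨hlt, h0, hm⟩ := closedL_spec h
    have hx' := hlt x hx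
    have hpow : ∀ n : ℕ, ∃ y ∈ l, D.el y = D.el x ^ n := by
      intro n
      induction n with
      | zero => exact ⟨0, h0, by rw [pow_zero, D.el_zero]⟩
      | succ n ih =>
        obtain ⟨y, hy, e⟩ := ih
        exact ⟨_, hm y hy x hx, by rw [D.el_mul (hlt y hy) hx', e, pow_succ]⟩
    have hfin : IsOfFinOrder (D.el x) := by
      refine isOfFinOrder_iff_pow_eq_one.2 ?_
      obtain ⟨i, j, hne, e⟩ : ∃ i j : Fin 769, i ≠ j ∧ D.el x ^ (i : ℕ) = D.el x ^ (j : ℕ) := by
        choose f hfl hfe using hpow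
        obtain ⟨i, j, hne, e⟩ := Fintype.exists_ne_map_eq_of_card_lt
          (fun i : Fin 769 => (⟨f i, hlt _ (hfl i)⟩ : Fin 768)) (by simp)
        exact ⟨i, j, hne, by rw [← hfe, ← hfe, show f i = f j from congrArg Fin.val e]⟩
      rcases lt_or_gt_of_ne (fun e' => hne (Fin.ext e')) with hlt' | hlt'
      · exact ⟨(j : ℕ) - i, by omega, by rw [pow_sub _ hlt'.le, e, mul_inv_cancel]⟩
      · exact ⟨(i : ℕ) - j, by omega, by rw [pow_sub _ hlt'.le, e, mul_inv_cancel]⟩
    obtain ⟨y, hy, e⟩ := hpow (orderOf (D.el x) - 1)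
    refine ⟨y, hy, ?_⟩
    rw [e, eq_inv_iff_mul_eq_one, ← pow_succ, Nat.sub_add_cancel hfin.orderOf_pos, pow_orderOf_eq_one]

theorem mem_sub {l : List ℕ} (h : closedL k l = true) {x : ℕ} (hx : x < 768) :
    D.el x ∈ D.sub h ↔ x ∈ l := by
  refine ⟨?_, fun hxl => ⟨x, hxl, rfl⟩⟩
  rintro ⟨y, hy, e⟩
  rwa [D.el_inj hx ((closedL_spec h).1 y hy) e.symm]

theorem sub_le {l : List ℕ} (h : closedL k l = true) : D.sub h ≤ centralizer ({z} : Set G) := by
  rintro _ ⟨x, hx, rfl⟩
  exact D.el_mem ((closedL_spec h).1 x hx)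

theorem card_sub_pred {l : List ℕ} (h : closedL k l = true) (hnd : l.Nodup) (p : G → Prop) (b : ℕ → Bool)
    (hp : ∀ x ∈ l, p (D.el x) ↔ b x = true) : Nat.card {g : D.sub h // p g} = l.countP b := by
  classical
  obtain ⟨hlt, -, -⟩ := closedL_spec h
  let S := (l.filter b).toFinset
  have hS : ∀ x, x ∈ S ↔ x ∈ l ∧ b x = true := fun x => by simp [S]
  let f : S → {g : D.sub h // p g} := fun x =>
    ⟨⟨D.el x, x, ((hS x).1 x.2).1, rfl⟩, (hp x ((hS x).1 x.2).1).2 ((hS x).1 x.2).2⟩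
  have hf : Function.Bijective f := by
    refine ⟨fun x y e => Subtype.ext (D.el_inj (hlt x ((hS x).1 x.2).1) (hlt y ((hS y).1 y.2).1)
      (congrArg (fun w => ((w : D.sub h) : G)) (congrArg Subtype.val e))), ?_⟩
    rintro ⟨⟨g, x, hx, rfl⟩, hg⟩
    exact ⟨⟨x, (hS x).2 ⟨hx, (hp x hx).1 hg⟩⟩, rfl⟩
  rw [← Nat.card_eq_of_bijective f hf, Nat.card_eq_finsetCard,
    List.toFinset_card_of_nodup (hnd.filter _), List.countP_eq_length_filter]

theorem card_sub {l : List ℕ} (h : closedL k l = true) (hnd : l.Nodup) :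
    Nat.card (D.sub h) = l.length := by
  rw [show l.length = l.countP (fun _ => true) by simp, ← D.card_sub_pred h hnd (fun _ => True) _ (by simp)]
  exact Nat.card_congr (Equiv.subtypeUnivEquiv fun _ => trivial).symm

theorem card_kill {l : List ℕ} (h : closedL k l = true) (hnd : l.Nodup) (j : ℕ) :
    Nat.card {g : D.sub h // (g : G) ^ 2 ^ j = 1} = killCount k j l := by
  refine D.card_sub_pred h hnd (fun g => g ^ 2 ^ j = 1) _ fun x hx => ?_
  have hx' := (closedL_spec h).1 x hx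
  rw [← D.el_sqn j x hx', Nat.beq_eq, D.el_eq_one_iff (sqn_lt j x hx')]

end Local

end Cfsg.Agent.AutL34Type
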